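import Groth.Agent.CAlg.K83.AnnRing
import Groth.Agent.CalgB.PowSerMap
import Groth.Agent.Ega4A.CMCatenary
import Groth.Agent.Ega4A.RegCM
import Groth.Agent.Localalg.RegPowerSeries
import Groth.Agent.S2821

/-!
# Dimension theory of `R[[u,v]]/(uv - Δ)`
-/

set_option autoImplicit false

universe u

open MvPowerSeries IsLocalRing

namespace K83.AnnDim

open AnnRing

variable {R : Type u} [CommRing R]

theorem nontrivial_S [IsLocalRing R] {Δ : R} (hΔ : Δ ∈ maximalIdeal R) : Nontrivial (S Δ) := by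
  rw [Ideal.Quotient.nontrivial_iff, Ne, Ideal.span_singleton_eq_top]
  intro h
  have h1 := h.map (constantCoeff (σ := Fin 2) (R := R))
  rw [map_sub, map_mul, constantCoeff_X, zero_mul, zero_sub, constantCoeff_C, IsUnit.neg_iff] at h1
  exact hΔ h1

theorem isLocalRing_S [IsLocalRing R] {Δ : R} (hΔ : Δ ∈ maximalIdeal R) : IsLocalRing (S Δ) := by
  have := nontrivial_S hΔ
  exact IsLocalRing.of_surjective' (Ideal.Quotient.mk _) Ideal.Quotient.mk_surjective

theorem isLocalHom_algebraMap [IsLocalRing R] {Δ : R} (hΔ : Δ ∈ maximalIdeal R) :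
    IsLocalHom (algebraMap R (S Δ)) := by
  refine ⟨fun r hr => ?_⟩
  have h1 := hr.map (axS Δ (residue R) (by rwa [residue_eq_zero_iff]) 0)
  rw [axS_algebraMap, PowerSeries.isUnit_iff_constantCoeff, PowerSeries.constantCoeff_C] at h1
  exact (isUnit_map_iff (residue R) r).1 h1

theorem X_mem [IsLocalRing R] {Δ : R} (hΔ : Δ ∈ maximalIdeal R) [IsLocalRing (S Δ)] (i : Fin 2) :
    (Ideal.Quotient.mk _ (X i) : S Δ) ∈ maximalIdeal (S Δ) := by
  rw [mem_maximalIdeal, mem_nonunits_iff]
  intro h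
  have h1 := h.map (axS Δ (residue R) (by rwa [residue_eq_zero_iff]) i)
  rw [axS_X_self, PowerSeries.isUnit_iff_constantCoeff, PowerSeries.constantCoeff_X] at h1
  exact not_isUnit_zero h1

theorem gen_S (Δ : R) (t : S Δ) : ∃ (r : R) (t' t'' : S Δ),
    t = algebraMap R (S Δ) r + Ideal.Quotient.mk _ (X 0) * t' + Ideal.Quotient.mk _ (X 1) * t'' := by
  obtain ⟨t, rfl⟩ := Ideal.Quotient.mk_surjective t
  obtain ⟨r, g, h, rfl⟩ := gen t
  exact ⟨r, Ideal.Quotient.mk _ g, Ideal.Quotient.mk _ h, by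
    rw [map_add, map_add, map_mul, map_mul]; rfl⟩

/-- The kernel of the axis map to `(R/Δ)[[X]]` is generated by the other variable. -/
theorem ker_axis (Δ : R) {i j : Fin 2} (h : j ≠ i) :
    RingHom.ker (axS Δ (Ideal.Quotient.mk (Ideal.span {Δ}))
      (Ideal.Quotient.eq_zero_iff_mem.2 (Ideal.mem_span_singleton_self _)) i) =
      Ideal.span {(Ideal.Quotient.mk _ (X j) : S Δ)} := by
  apply le_antisymm
  · refine (ker_axS_le _ _ i h ?_).trans (sup_le ?_ le_rfl)
    · rw [Ideal.mk_ker]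
      exact Submodule.fg_span_singleton _
    · rw [Ideal.mk_ker, Ideal.map_span, Set.image_singleton, Ideal.span_singleton_le_iff_mem,
        ← mk_uv, Ideal.mem_span_singleton]
      rcases (by omega : j = 0 ∨ j = 1) with rfl | rfl
      · exact Dvd.intro _ rfl
      · exact Dvd.intro_left _ rfl
  · rw [Ideal.span_singleton_le_iff_mem, RingHom.mem_ker, axS_X_ne _ _ _ h]

theorem isPrime_span_X {Δ : R} (hΔ : Prime Δ) {i j : Fin 2} (h : j ≠ i) :
    (Ideal.span {(Ideal.Quotient.mk _ (X j) : S Δ)}).IsPrime := by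
  have : (Ideal.span {Δ}).IsPrime := (Ideal.span_singleton_prime hΔ.ne_zero).2 hΔ
  rw [← ker_axis Δ h]
  exact RingHom.ker_isPrime _

/-- `u` is a nonzerodivisor. -/
theorem mul_X_eq_zero [IsDomain R] {Δ : R} (hΔ : Δ ≠ 0) {x : S Δ}
    (hx : Ideal.Quotient.mk _ (X 0) * x = 0) : x = 0 := by
  obtain ⟨f, rfl⟩ := Ideal.Quotient.mk_surjective x
  rw [← map_mul, Ideal.Quotient.eq_zero_iff_mem, Ideal.mem_span_singleton'] at hx
  obtain ⟨h, hh⟩ := hx
  have h1 : ax 1 h = 0 := by
    have h2 := congrArg (ax 1) hh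
    rw [map_mul, map_sub, map_mul, map_mul, ax_X_ne (i := 1) (j := 0) (by decide), zero_mul, zero_mul,
      ax_C, zero_sub] at h2
    refine (mul_eq_zero.1 h2).resolve_right fun h3 => hΔ ?_
    have h4 := congrArg (PowerSeries.constantCoeff) (neg_eq_zero.1 h3)
    rwa [PowerSeries.constantCoeff_C, map_zero] at h4
  obtain ⟨h', rfl⟩ := X_dvd_of_ax_eq_zero (i := 1) (j := 0) (by decide) h1
  have h5 : f = h' * (X 0 * X 1 - C Δ) := by
    have hX : (X 0 : MvPowerSeries (Fin 2) R) ≠ 0 := by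
      intro h0
      have := ax_X_self (R := R) 0
      rw [h0, map_zero] at this
      exact PowerSeries.X_ne_zero this.symm
    apply mul_left_cancel₀ hX
    rw [← hh]
    ring
  rw [Ideal.Quotient.eq_zero_iff_mem, h5]
  exact Ideal.mul_mem_left _ _ (Ideal.mem_span_singleton_self _)

/-- A Noetherian local ring with a prime principal ideal generated by a nonzerodivisor is a domain. -/
theorem isDomain_of_prime {T : Type u} [CommRing T] [IsLocalRing T] [IsNoetherianRing T] (x : T)
    (hx : x ∈ maximalIdeal T) (hp : (Ideal.span {x}).IsPrime) (hz : ∀ y, x * y = 0 → y = 0) :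
    IsDomain T := by
  obtain ⟨P, hP, hPx⟩ := Ideal.exists_minimalPrimes_le (I := (⊥ : Ideal T)) (J := Ideal.span {x})
    bot_le
  have hPp : P.IsPrime := hP.1.1
  have hxP : x ∉ P := by
    intro h
    refine notMem_nonZeroDivisors_of_mem_mem_minimalPrimes h hP ?_
    rw [mem_nonZeroDivisors_iff_right]
    intro y hy
    exact hz y (by rwa [mul_comm] at hy)
  have hP0 : P = ⊥ := by
    refine Submodule.eq_bot_of_le_smul_of_le_jacobson_bot (maximalIdeal T) P
      (IsNoetherian.noetherian P) ?_ (IsLocalRing.maximalIdeal_le_jacobson _)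
    intro z hz'
    obtain ⟨y, rfl⟩ := Ideal.mem_span_singleton'.1 (hPx hz')
    rw [mul_comm, smul_eq_mul]
    exact Ideal.mul_mem_mul hx ((hPp.mem_or_mem hz').resolve_right hxP)
  rw [hP0] at hPp
  exact IsDomain.of_bot_isPrime T

theorem le_of_add_one_le_add_one {x y : WithBot ℕ∞} (h : x + 1 ≤ y + 1) : x ≤ y := by
  induction x using WithBot.recBotCoe with
  | bot => exact bot_le
  | coe x =>
    induction y using WithBot.recBotCoe with
    | bot =>
      exfalso
      rw [WithBot.bot_add, le_bot_iff] at h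
      exact WithBot.coe_ne_bot h
    | coe y =>
      have h' : x + 1 ≤ y + 1 := by exact_mod_cast h
      have := (ENat.add_le_add_iff_right ENat.one_ne_top).1 h'
      exact_mod_cast this

/-- `dim R + 1 ≤ ht P + dim S/P`. -/
theorem le_height_add [IsRegularLocalRing R] (Δ : R) (P : Ideal (S Δ)) [P.IsPrime] :
    ringKrullDim R + 1 ≤ (P.height : WithBot ℕ∞) + ringKrullDim (S Δ ⧸ P) := by
  have hA := Groth.Agent.Localalg.RegPowerSeries.isRegularLocalRing_mvPowerSeries R 2
  have hCM := Groth.Agent.Ega4A.RegCM.isCohenMacaulayLocalRing_of_isRegularLocalRing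
    (MvPowerSeries (Fin 2) R)
  set π : MvPowerSeries (Fin 2) R →+* S Δ := Ideal.Quotient.mk _ with hπ
  have hπs : Function.Surjective π := Ideal.Quotient.mk_surjective
  have h1 := Groth.Agent.Ega4A.CMCatenary.height_add_ringKrullDim_quotient
    (M := MvPowerSeries (Fin 2) R) hCM.supportDim_eq_depth (by
      have : IsDomain (MvPowerSeries (Fin 2) R) :=
        (Groth.Agent.S2821.result (MvPowerSeries (Fin 2) R)).1
      rw [Module.support_eq_zeroLocus, Module.annihilator_eq_bot.mpr inferInstance]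
      simp) (P.comap π)
  rw [Groth.Agent.CalgB.PowSerMap.ringKrullDim_mvPowerSeries] at h1
  have h2 : (X 0 * X 1 - C Δ : MvPowerSeries (Fin 2) R) ∈ P.comap π := by
    rw [Ideal.mem_comap, hπ, Ideal.Quotient.eq_zero_iff_mem.2 (Ideal.mem_span_singleton_self _)]
    exact zero_mem _
  have h3 := Ideal.height_le_height_add_one_of_mem h2
  rw [← hπ, Ideal.map_comap_of_surjective π hπs] at h3
  have hk : P.comap π = RingHom.ker ((Ideal.Quotient.mk P).comp π) := by
    ext x
    rw [Ideal.mem_comap, RingHom.mem_ker, RingHom.comp_apply, Ideal.Quotient.eq_zero_iff_mem]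
  have h4 : ringKrullDim (MvPowerSeries (Fin 2) R ⧸ P.comap π) = ringKrullDim (S Δ ⧸ P) :=
    ringKrullDim_eq_of_ringEquiv ((Ideal.quotEquivOfEq hk).trans
      (RingHom.quotientKerEquivOfSurjective (f := (Ideal.Quotient.mk P).comp π)
        (Ideal.Quotient.mk_surjective.comp hπs)))
  rw [h4] at h1
  obtain ⟨d, hd⟩ : ∃ d : ℕ, ringKrullDim R = d :=
    ⟨_, (IsRegularLocalRing.spanFinrank_maximalIdeal (R := R)).symm⟩
  rw [hd] at h1 ⊢
  have h5 : (((P.comap π).height : ℕ∞) : WithBot ℕ∞) ≤ (P.height : WithBot ℕ∞) + 1 := by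
    exact_mod_cast h3
  have h6 : ((d : WithBot ℕ∞) + 1) + 1 ≤ ((P.height : WithBot ℕ∞) + ringKrullDim (S Δ ⧸ P)) + 1 := by
    calc ((d : WithBot ℕ∞) + 1) + 1 = (d : WithBot ℕ∞) + (2 : ℕ) := by
          rw [add_assoc]; norm_num
      _ = (((P.comap π).height : ℕ∞) : WithBot ℕ∞) + ringKrullDim (S Δ ⧸ P) := h1.symm
      _ ≤ ((P.height : WithBot ℕ∞) + 1) + ringKrullDim (S Δ ⧸ P) := by gcongr
      _ = _ := by rw [add_right_comm]
  exact le_of_add_one_le_add_one h6

end K83.AnnDim
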