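import Groth.Agent.CalgA.TateCore
import Mathlib.RingTheory.Filtration
import Mathlib.RingTheory.AdicCompletion.Noetherian
import Mathlib.RingTheory.Nakayama

/-!
# Finiteness over the base of quotients of `R[[u,v]]/(uv - Δ)`
-/

set_option autoImplicit false

universe u

open IsLocalRing

namespace K83.AnnFin

variable {R : Type u} [CommRing R] [IsLocalRing R]

theorem isHausdorff_quotient {S : Type u} [CommRing S] [IsLocalRing S] [IsNoetherianRing S]
    [Algebra R S] [IsLocalHom (algebraMap R S)] (J : Ideal S) :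
    IsHausdorff (maximalIdeal R) (S ⧸ J) := by
  have h1 : (maximalIdeal R).map (algebraMap R S) ≤ maximalIdeal S :=
    ((IsLocalRing.local_hom_TFAE (algebraMap R S)).out 0 2).mp ‹_›
  have h2 : IsHausdorff (maximalIdeal S) (S ⧸ J) :=
    ⟨fun x hx => (Ideal.iInf_pow_smul_eq_bot_of_isLocalRing (M := S ⧸ J) (maximalIdeal S)
      (maximalIdeal.isMaximal S).ne_top).le (by simpa [SModEq.zero] using hx)⟩
  exact IsHausdorff.of_map (R := R) (J := maximalIdeal S) h1

section

variable [IsAdicComplete (maximalIdeal R) R] {T : Type u} [CommRing T] [Algebra R T]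
  [IsHausdorff (maximalIdeal R) T]

omit [IsAdicComplete (maximalIdeal R) R] [IsHausdorff (maximalIdeal R) T] in
theorem mul_mem_smul_top {m t : T} (hm : m ∈ (maximalIdeal R • ⊤ : Submodule R T)) :
    m * t ∈ (maximalIdeal R • ⊤ : Submodule R T) := by
  induction hm using Submodule.smul_induction_on' with
  | smul r hr x _ =>
    rw [smul_mul_assoc]
    exact Submodule.smul_mem_smul hr trivial
  | add x _ y _ hx hy =>
    rw [add_mul]
    exact add_mem hx hy

theorem finite_and_eq_top (x y : T) {Δ : R} (hΔ : Δ ∈ maximalIdeal R)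
    (hxy : x * y = algebraMap R T Δ)
    (gen : ∀ t : T, ∃ (r : R) (t' t'' : T), t = algebraMap R T r + x * t' + y * t'') {n : ℕ}
    (hx : x ^ (n + 1) ∈ (maximalIdeal R • ⊤ : Submodule R T))
    (hy : y ^ (n + 1) ∈ (maximalIdeal R • ⊤ : Submodule R T)) (W : Submodule R T) (hW : W.FG)
    (hWx : ∀ i ≤ n, x ^ i ∈ W) (hWy : ∀ i ≤ n, y ^ i ∈ W) : Module.Finite R T ∧ W = ⊤ := by
  have hΔ' : ∀ t : T, Δ • t ∈ (maximalIdeal R • ⊤ : Submodule R T) := fun t =>
    Submodule.smul_mem_smul hΔ trivial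
  have key : ∀ k ≤ n, ∀ t : T, ∃ w ∈ W, ∃ a b : T,
      t - (w + x ^ (k + 1) * a + y ^ (k + 1) * b) ∈ (maximalIdeal R • ⊤ : Submodule R T) := by
    intro k
    induction k with
    | zero =>
      intro _ t
      obtain ⟨r, a, b, rfl⟩ := gen t
      refine ⟨algebraMap R T r, ?_, a, b, ?_⟩
      · have := W.smul_mem r (hWx 0 (Nat.zero_le _))
        rwa [pow_zero, Algebra.smul_def, mul_one] at this
      · convert zero_mem (maximalIdeal R • ⊤ : Submodule R T) using 1
        ring
    | succ k ih =>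
      intro hk t
      obtain ⟨w, hw, a, b, h⟩ := ih (by omega) t
      obtain ⟨r, a₁, a₂, rfl⟩ := gen a
      obtain ⟨r', b₁, b₂, rfl⟩ := gen b
      refine ⟨w + r • x ^ (k + 1) + r' • y ^ (k + 1),
        add_mem (add_mem hw (W.smul_mem _ (hWx _ hk))) (W.smul_mem _ (hWy _ hk)), a₁, b₂, ?_⟩
      have h2 := add_mem h (add_mem (hΔ' (x ^ k * a₂)) (hΔ' (y ^ k * b₁)))
      convert h2 using 1
      rw [Algebra.smul_def, Algebra.smul_def, Algebra.smul_def, Algebra.smul_def, ← hxy]
      ring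
  have hWM : ∀ t : T, ∃ w ∈ W, t - w ∈ (maximalIdeal R • ⊤ : Submodule R T) := by
    intro t
    obtain ⟨w, hw, a, b, h⟩ := key n le_rfl t
    refine ⟨w, hw, ?_⟩
    have := add_mem h (add_mem (mul_mem_smul_top (t := a) hx) (mul_mem_smul_top (t := b) hy))
    convert this using 1
    ring
  have hfin : Module.Finite R T :=
    Groth.Agent.CalgA.TateCore.finite_of_isAdicComplete (maximalIdeal R) W hW hWM
  refine ⟨hfin, ?_⟩
  have h1 : (⊤ : Submodule R T) ≤ W ⊔ maximalIdeal R • ⊤ := by
    intro t _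
    obtain ⟨w, hw, h⟩ := hWM t
    rw [Submodule.mem_sup]
    exact ⟨w, hw, _, h, by ring⟩
  exact top_le_iff.1 (Submodule.le_of_le_smul_of_le_jacobson_bot (Module.finite_def.1 hfin)
    (IsLocalRing.maximalIdeal_le_jacobson _) h1)

end

end K83.AnnFin
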