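import Mathlib.FieldTheory.Minpoly.IsIntegrallyClosed

/-!
# Minimal polynomials of `u` and `v` with `u v = Δ` prime

`R` integrally closed, `B` a domain over `R`, `u, v ∈ B` integral with `u v = Δ` a prime of `R`. The minimal
polynomial of `u` is `u ^ a` times a "Laurent-Weierstrass polynomial" in `u` and `v`.
-/

set_option autoImplicit false

open Polynomial

namespace K83.AnnKey

variable {R : Type*} [CommRing R]

/-- `∑ f_i Δ^i T^(e-i)`. -/
noncomputable def rv (f : R[X]) (Δ : R) : R[X] :=
  ∑ i ∈ Finset.range (f.natDegree + 1), C (f.coeff i * Δ ^ i) * X ^ (f.natDegree - i)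

theorem aeval_rv {B : Type*} [CommRing B] [Algebra R B] (f : R[X]) (Δ : R) (u v : B)
    (huv : u * v = algebraMap R B Δ) : aeval v (rv f Δ) = v ^ f.natDegree * aeval u f := by
  rw [rv, map_sum, aeval_eq_sum_range, Finset.mul_sum]
  refine Finset.sum_congr rfl fun i hi => ?_
  have hi' : i ≤ f.natDegree := Nat.lt_succ_iff.1 (Finset.mem_range.1 hi)
  rw [map_mul, map_pow, aeval_X, aeval_C, map_mul, map_pow, ← huv, Algebra.smul_def]
  have : v ^ f.natDegree = v ^ i * v ^ (f.natDegree - i) := by
    rw [← pow_add, Nat.add_sub_cancel' hi']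
  rw [this, mul_pow]
  ring

theorem coeff_rv (f : R[X]) (Δ : R) {i : ℕ} (hi : i ≤ f.natDegree) :
    (rv f Δ).coeff (f.natDegree - i) = f.coeff i * Δ ^ i := by
  rw [rv, finsetSum_coeff]
  rw [Finset.sum_eq_single i]
  · rw [coeff_C_mul, coeff_X_pow, if_pos rfl, mul_one]
  · intro j hj hji
    have hj' : j ≤ f.natDegree := Nat.lt_succ_iff.1 (Finset.mem_range.1 hj)
    rw [coeff_C_mul, coeff_X_pow, if_neg (by omega), mul_zero]
  · intro h
    exact absurd (Finset.mem_range.2 (Nat.lt_succ_iff.2 hi)) h

theorem natDegree_rv_le (f : R[X]) (Δ : R) : (rv f Δ).natDegree ≤ f.natDegree := by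
  refine natDegree_sum_le_of_forall_le _ _ fun i _ => ?_
  exact (natDegree_C_mul_X_pow_le _ _).trans (Nat.sub_le _ _)

variable [IsDomain R] [IsIntegrallyClosed R] {B : Type*} [CommRing B] [IsDomain B] [Algebra R B]
  [Module.IsTorsionFree R B]

omit [IsIntegrallyClosed R] in
theorem rv_ne_zero {f : R[X]} (hf : f.Monic) {Δ : R} (hΔ : Δ ≠ 0) : rv f Δ ≠ 0 := by
  intro h
  have := coeff_rv f Δ le_rfl
  rw [h, coeff_zero, hf.coeff_natDegree, one_mul] at this
  exact pow_ne_zero _ hΔ this.symm

theorem natDegree_le {u v : B} (hu : IsIntegral R u) (hv : IsIntegral R v) {Δ : R} (hΔ : Δ ≠ 0)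
    (huv : u * v = algebraMap R B Δ) :
    (minpoly R v).natDegree ≤ (minpoly R u).natDegree := by
  have h1 : minpoly R v ∣ rv (minpoly R u) Δ := by
    refine minpoly.isIntegrallyClosed_dvd hv ?_
    rw [aeval_rv _ _ u v huv, minpoly.aeval, mul_zero]
  exact (natDegree_le_of_dvd h1 (rv_ne_zero (minpoly.monic hu) hΔ)).trans (natDegree_rv_le _ _)

theorem coeff_rel {u v : B} (hu : IsIntegral R u) (hv : IsIntegral R v) {Δ : R} (hΔ : Δ ≠ 0)
    (huv : u * v = algebraMap R B Δ) {i : ℕ} (hi : i ≤ (minpoly R u).natDegree) :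
    (minpoly R u).coeff i * Δ ^ i =
      (minpoly R u).coeff 0 * (minpoly R v).coeff ((minpoly R u).natDegree - i) := by
  have he : (minpoly R v).natDegree = (minpoly R u).natDegree :=
    le_antisymm (natDegree_le hu hv hΔ huv) (natDegree_le hv hu hΔ (by rw [mul_comm, huv]))
  obtain ⟨q, hq⟩ : minpoly R v ∣ rv (minpoly R u) Δ := by
    refine minpoly.isIntegrallyClosed_dvd hv ?_
    rw [aeval_rv _ _ u v huv, minpoly.aeval, mul_zero]
  have hq0 : q ≠ 0 := by
    rintro rfl
    exact rv_ne_zero (minpoly.monic hu) hΔ (by rw [hq, mul_zero])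
  have hqd : q.natDegree = 0 := by
    have h1 := natDegree_rv_le (minpoly R u) Δ
    rw [hq, (minpoly.monic hv).natDegree_mul' hq0, he] at h1
    omega
  obtain ⟨c, rfl⟩ := natDegree_eq_zero.1 hqd
  have key : ∀ i ≤ (minpoly R u).natDegree, (minpoly R u).coeff i * Δ ^ i =
      (minpoly R v).coeff ((minpoly R u).natDegree - i) * c := by
    intro i hi
    rw [← coeff_rv _ Δ hi, hq, coeff_mul_C]
  have h0 := key 0 (Nat.zero_le _)
  rw [pow_zero, mul_one, Nat.sub_zero, ← he, (minpoly.monic hv).coeff_natDegree, one_mul] at h0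
  rw [key i hi, h0, mul_comm]

/-- The main lemma. -/
theorem exists_data {u v : B} (hu : IsIntegral R u) (hv : IsIntegral R v) {Δ : R} (hΔ : Prime Δ)
    (huv : u * v = algebraMap R B Δ) :
    ∃ (a b : ℕ) (ε : Rˣ) (p q : ℕ → R),
      (∑ i ∈ Finset.range (b + 1), p i • u ^ i + ∑ j ∈ Finset.range a, q j • v ^ (j + 1) = 0) ∧
      p b = 1 ∧ (0 < a → q (a - 1) = ε) ∧ (a = 0 → p 0 = ε) ∧
      (∀ r s : ℕ → R, ∑ i ∈ Finset.range b, r i • u ^ i +
        ∑ j ∈ Finset.range a, s j • v ^ (j + 1) = 0 →
        (∀ i < b, r i = 0) ∧ (∀ j < a, s j = 0)) := by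
  set f := minpoly R u with hf
  set g := minpoly R v with hg
  set e := f.natDegree with he
  have heg : g.natDegree = e :=
    le_antisymm (natDegree_le hu hv hΔ.ne_zero huv) (natDegree_le hv hu hΔ.ne_zero (by rw [mul_comm, huv]))
  have hrel : ∀ i ≤ e, f.coeff i * Δ ^ i = f.coeff 0 * g.coeff (e - i) := fun i hi =>
    coeff_rel hu hv hΔ.ne_zero huv hi
  have hfm : f.Monic := minpoly.monic hu
  have hgm : g.Monic := minpoly.monic hv
  -- the constant coefficient
  have h1 : f.coeff 0 ∣ Δ ^ e := by
    have := hrel e le_rfl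
    rw [hfm.coeff_natDegree, one_mul] at this
    exact ⟨_, this⟩
  obtain ⟨a, ha, ε', hε'⟩ := (dvd_prime_pow hΔ e).1 h1
  -- `f_0 * ε' = Δ ^ a`
  obtain ⟨ε, hε⟩ : ∃ ε : Rˣ, f.coeff 0 = ε * Δ ^ a :=
    ⟨ε'⁻¹, by rw [← hε', mul_comm, mul_assoc, Units.mul_inv, mul_one]⟩
  obtain ⟨b, hb⟩ : ∃ b, e = a + b := ⟨e - a, by omega⟩
  have hu0 : u ≠ 0 := by
    rintro rfl
    rw [zero_mul] at huv
    exact hΔ.ne_zero ((FaithfulSMul.algebraMap_injective R B) (by rw [← huv, map_zero]))
  have hlow : ∀ j < a, f.coeff (a - 1 - j) = ε * g.coeff (b + j + 1) * Δ ^ (j + 1) := by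
    intro j hj
    have h2 := hrel (a - 1 - j) (by omega)
    rw [hε] at h2
    have h3 : e - (a - 1 - j) = b + j + 1 := by omega
    rw [h3] at h2
    apply mul_right_cancel₀ (pow_ne_zero (a - 1 - j) hΔ.ne_zero)
    rw [h2]
    have h4 : Δ ^ a = Δ ^ (j + 1) * Δ ^ (a - 1 - j) := by
      rw [← pow_add]
      congr 1
      omega
    rw [h4]
    ring
  have huvp : ∀ j < a, u ^ a * v ^ (j + 1) = algebraMap R B (Δ ^ (j + 1)) * u ^ (a - 1 - j) := by
    intro j hj
    have h4 : u ^ a = u ^ (j + 1) * u ^ (a - 1 - j) := by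
      rw [← pow_add]
      congr 1
      omega
    rw [h4, map_pow, ← huv, mul_pow]
    ring
  refine ⟨a, b, ε, fun i => f.coeff (a + i), fun j => ε * g.coeff (b + j + 1), ?_, ?_, ?_, ?_, ?_⟩
  · apply mul_left_cancel₀ (pow_ne_zero a hu0)
    rw [mul_zero, mul_add, Finset.mul_sum, Finset.mul_sum]
    have h5 : aeval u f = 0 := minpoly.aeval R u
    rw [aeval_eq_sum_range, ← he, hb, add_assoc, Finset.sum_range_add, add_comm] at h5
    rw [← h5]
    congr 1
    · refine Finset.sum_congr rfl fun i _ => ?_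
      rw [Algebra.smul_def, Algebra.smul_def, pow_add]
      ring
    · rw [← Finset.sum_range_reflect (fun x => f.coeff x • u ^ x) a]
      refine Finset.sum_congr rfl fun j hj => ?_
      have hj' := Finset.mem_range.1 hj
      simp only
      rw [Algebra.smul_def, Algebra.smul_def, mul_left_comm, huvp j hj', hlow j hj']
      simp only [map_mul, map_pow]
      ring
  · simp only
    rw [← hb]
    exact hfm.coeff_natDegree
  · intro ha'
    have h6 : b + (a - 1) + 1 = e := by omega
    simp only
    rw [h6, ← heg, hgm.coeff_natDegree, mul_one]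
  · intro ha'
    simp only
    rw [ha', add_zero, hε, ha', pow_zero, mul_one]
  · intro r s hrs
    let c : ℕ → R := fun n => if n < a then s (a - 1 - n) * Δ ^ (a - n) else r (n - a)
    let h : R[X] := ∑ n ∈ Finset.range (a + b), C (c n) * X ^ n
    have hh : aeval u h = 0 := by
      have h7 := congrArg (fun z => u ^ a * z) hrs
      simp only [mul_zero, mul_add, Finset.mul_sum] at h7
      rw [← h7]
      simp only [h]
      rw [map_sum, Finset.sum_range_add, add_comm]
      congr 1
      · refine Finset.sum_congr rfl fun i _ => ?_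
        simp only [c]
        rw [if_neg (by omega), Nat.add_sub_cancel_left, map_mul, map_pow, aeval_X, aeval_C,
          Algebra.smul_def, pow_add]
        ring
      · rw [← Finset.sum_range_reflect (fun x => (aeval u) (C (c x) * X ^ x)) a]
        refine Finset.sum_congr rfl fun j hj => ?_
        have hj' := Finset.mem_range.1 hj
        simp only [c]
        rw [if_pos (by omega), map_mul, map_pow, aeval_X, aeval_C, Algebra.smul_def, mul_left_comm,
          huvp j hj', map_mul]
        have h8 : a - 1 - (a - 1 - j) = j := by omega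
        have h9 : a - (a - 1 - j) = j + 1 := by omega
        rw [h8, h9]
        ring
    have hcoef : ∀ n < a + b, h.coeff n = c n := by
      intro n hn
      simp only [h]
      rw [finsetSum_coeff, Finset.sum_eq_single n]
      · rw [coeff_C_mul, coeff_X_pow, if_pos rfl, mul_one]
      · intro m _ hmn
        rw [coeff_C_mul, coeff_X_pow, if_neg (Ne.symm hmn), mul_zero]
      · intro hn'
        exact absurd (Finset.mem_range.2 hn) hn'
    have h0 : h = 0 := by
      have hdvd : f ∣ h := minpoly.isIntegrallyClosed_dvd hu hh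
      by_contra hne
      have h10 := natDegree_le_of_dvd hdvd hne
      have h11 : h.natDegree ≤ a + b - 1 := by
        refine natDegree_sum_le_of_forall_le _ _ fun n hn => ?_
        refine (natDegree_C_mul_X_pow_le _ _).trans ?_
        have := Finset.mem_range.1 hn
        omega
      rcases Nat.eq_zero_or_pos (a + b) with h12 | h12
      · apply hne
        simp only [h]
        rw [h12, Finset.range_zero, Finset.sum_empty]
      · omega
    have hc : ∀ n < a + b, c n = 0 := by
      intro n hn
      rw [← hcoef n hn, h0, coeff_zero]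
    refine ⟨fun i hi => ?_, fun j hj => ?_⟩
    · have := hc (a + i) (by omega)
      simp only [c] at this
      rwa [if_neg (by omega), Nat.add_sub_cancel_left] at this
    · have := hc (a - 1 - j) (by omega)
      simp only [c] at this
      rw [if_pos (by omega)] at this
      have h8 : a - 1 - (a - 1 - j) = j := by omega
      rw [h8] at this
      exact (mul_eq_zero.1 this).resolve_right (pow_ne_zero _ hΔ.ne_zero)

end K83.AnnKey
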