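import Groth.Agent.CAlg.K83.AnnFin
import Groth.Agent.CAlg.K83.AnnKey
import Mathlib.RingTheory.PowerSeries.Inverse

/-!
# Height one primes finite over the base are principal in `R[[u,v]]/(uv - Δ)`
-/

set_option autoImplicit false

universe u

open IsLocalRing

namespace K83.AnnPrin

variable {R : Type u} [CommRing R]

section Axis

variable [IsLocalRing R]

/-- Axis data: `φ : S → k[[X]]` kills `x` and sends `y` to `X`. -/
structure IsAxis {S : Type u} [CommRing S] [Algebra R S] (x y : S)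
    (φ : S →+* PowerSeries (ResidueField R)) : Prop where
  surj : Function.Surjective φ
  map_x : φ x = 0
  map_y : φ y = PowerSeries.X
  map_algebraMap : ∀ r, φ (algebraMap R S r) = PowerSeries.C (residue R r)
  ker_le : RingHom.ker φ ≤ (maximalIdeal R).map (algebraMap R S) ⊔ Ideal.span {x}

theorem IsAxis.exists_pow {S : Type u} [CommRing S] [Algebra R S] {x y : S}
    {φ : S →+* PowerSeries (ResidueField R)} (h : IsAxis (R := R) x y φ) {Δ : R}
    (hΔ : Δ ∈ maximalIdeal R) (hxy : x * y = algebraMap R S Δ) {g : S} (hg : φ g ≠ 0) :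
    ∃ n : ℕ, ∀ m, n ≤ m → y ^ m ∈ Ideal.span {g} ⊔ (maximalIdeal R).map (algebraMap R S) := by
  obtain ⟨n, w, hw⟩ := IsDiscreteValuationRing.associated_pow_irreducible hg
    (PowerSeries.X_irreducible (R := ResidueField R))
  obtain ⟨s, hs⟩ := h.surj w
  have h1 : g * s - y ^ n ∈ (maximalIdeal R).map (algebraMap R S) ⊔ Ideal.span {x} := by
    apply h.ker_le
    rw [RingHom.mem_ker, map_sub, map_mul, map_pow, h.map_y, hs, hw, sub_self]
  refine ⟨n + 1, fun m hm => ?_⟩
  have h2 : y ^ (n + 1) ∈ Ideal.span {g} ⊔ (maximalIdeal R).map (algebraMap R S) := by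
    obtain ⟨a, ha, b, hb, hab⟩ := Submodule.mem_sup.1 h1
    obtain ⟨c, rfl⟩ := Ideal.mem_span_singleton'.1 hb
    have h3 : y ^ (n + 1) = g * (s * y) - (a * y + c * algebraMap R S Δ) := by
      rw [← hxy]
      have : y ^ n = g * s - (a + c * x) := by rw [hab]; ring
      rw [pow_succ, this]
      ring
    rw [h3]
    refine sub_mem (Ideal.mem_sup_left (Ideal.mul_mem_right _ _ (Ideal.mem_span_singleton_self _)))
      (Ideal.mem_sup_right (add_mem (Ideal.mul_mem_right _ _ ha) (Ideal.mul_mem_left _ _ ?_)))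
    exact Ideal.mem_map_of_mem _ hΔ
  have h4 : y ^ m = y ^ (n + 1) * y ^ (m - (n + 1)) := by
    rw [← pow_add]
    congr 1
    omega
  rw [h4]
  exact Ideal.mul_mem_right _ _ h2

end Axis

/-- The linear span of `u^i` (`i < b`) and `v^(j+1)` (`j < a`). -/
noncomputable def W {T : Type u} [CommRing T] [Algebra R T] (u v : T) (a b : ℕ) : Submodule R T :=
  Submodule.span R (Set.range fun i : Fin b => u ^ (i : ℕ)) ⊔
    Submodule.span R (Set.range fun j : Fin a => v ^ ((j : ℕ) + 1))

section W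

variable {T : Type u} [CommRing T] [Algebra R T] {u v : T} {a b : ℕ}

theorem W_fg : (W (R := R) u v a b).FG :=
  Submodule.FG.sup (Submodule.fg_span (Set.finite_range _)) (Submodule.fg_span (Set.finite_range _))

theorem pow_u_mem {i : ℕ} (hi : i < b) : u ^ i ∈ W (R := R) u v a b :=
  Submodule.mem_sup_left (Submodule.subset_span ⟨⟨i, hi⟩, rfl⟩)

theorem pow_v_mem {j : ℕ} (hj : j < a) : v ^ (j + 1) ∈ W (R := R) u v a b :=
  Submodule.mem_sup_right (Submodule.subset_span ⟨⟨j, hj⟩, rfl⟩)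

theorem W_induction {C : T → Prop} (h0 : C 0) (ha : ∀ x y, C x → C y → C (x + y))
    (hs : ∀ (r : R) x, C x → C (r • x)) (hu : ∀ i < b, C (u ^ i)) (hv : ∀ j < a, C (v ^ (j + 1)))
    {t : T} (ht : t ∈ W (R := R) u v a b) : C t := by
  obtain ⟨x, hx, y, hy, rfl⟩ := Submodule.mem_sup.1 ht
  clear ht
  refine ha _ _ ?_ ?_
  · induction hx using Submodule.span_induction with
    | mem x hx => obtain ⟨i, rfl⟩ := hx; exact hu i i.2
    | zero => exact h0
    | add x y _ _ hx hy => exact ha _ _ hx hy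
    | smul r x _ hx => exact hs _ _ hx
  · induction hy using Submodule.span_induction with
    | mem x hx => obtain ⟨i, rfl⟩ := hx; exact hv i i.2
    | zero => exact h0
    | add x y _ _ hx hy => exact ha _ _ hx hy
    | smul r x _ hx => exact hs _ _ hx

theorem exists_repr {t : T} (ht : t ∈ W (R := R) u v a b) : ∃ r s : ℕ → R,
    t = ∑ i ∈ Finset.range b, r i • u ^ i + ∑ j ∈ Finset.range a, s j • v ^ (j + 1) := by
  classical
  refine W_induction (C := fun t => ∃ r s : ℕ → R,
    t = ∑ i ∈ Finset.range b, r i • u ^ i + ∑ j ∈ Finset.range a, s j • v ^ (j + 1)) ⟨0, 0, by simp⟩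
    ?_ ?_ ?_ ?_ ht
  · rintro _ _ ⟨r, s, rfl⟩ ⟨r', s', rfl⟩
    refine ⟨r + r', s + s', ?_⟩
    simp only [Pi.add_apply, add_smul, Finset.sum_add_distrib]
    ring
  · rintro c _ ⟨r, s, rfl⟩
    refine ⟨c • r, c • s, ?_⟩
    simp only [Pi.smul_apply, smul_eq_mul, mul_smul, smul_add, Finset.smul_sum]
  · intro i hi
    refine ⟨Pi.single i 1, 0, ?_⟩
    rw [Finset.sum_eq_single i]
    · simp
    · intro j _ hj
      rw [Pi.single_eq_of_ne hj, zero_smul]
    · intro h
      exact absurd (Finset.mem_range.2 hi) h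
  · intro i hi
    refine ⟨0, Pi.single i 1, ?_⟩
    rw [Finset.sum_eq_single (s := Finset.range a) i]
    · simp
    · intro j _ hj
      rw [Pi.single_eq_of_ne hj, zero_smul]
    · intro h
      exact absurd (Finset.mem_range.2 hi) h

/-- Closure of `W` under multiplication by `u` and `v`. -/
theorem pow_mem {Δ : R} (huv : u * v = algebraMap R T Δ) (ha : 0 < a) (hb : 0 < b) (ε : Rˣ)
    (p q : ℕ → R)
    (hg : ∑ i ∈ Finset.range (b + 1), p i • u ^ i + ∑ j ∈ Finset.range a, q j • v ^ (j + 1) = 0)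
    (hp : p b = 1) (hq : q (a - 1) = ε) :
    (∀ i, u ^ i ∈ W (R := R) u v a b) ∧ (∀ i, v ^ i ∈ W (R := R) u v a b) := by
  have huvs : ∀ t : T, u * (v * t) = Δ • t := fun t => by rw [← mul_assoc, huv, Algebra.smul_def]
  have hvus : ∀ t : T, v * (u * t) = Δ • t := fun t => by
    rw [← mul_assoc, mul_comm v u, huv, Algebra.smul_def]
  have hub : u ^ b ∈ W (R := R) u v a b := by
    rw [Finset.sum_range_succ, hp, one_smul] at hg
    have h1 : u ^ b = -(∑ i ∈ Finset.range b, p i • u ^ i +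
        ∑ j ∈ Finset.range a, q j • v ^ (j + 1)) := by
      rw [eq_neg_iff_add_eq_zero, ← hg]
      ring
    rw [h1]
    exact neg_mem (add_mem
      (Submodule.sum_mem _ fun i hi => Submodule.smul_mem _ _ (pow_u_mem (Finset.mem_range.1 hi)))
      (Submodule.sum_mem _ fun i hi => Submodule.smul_mem _ _ (pow_v_mem (Finset.mem_range.1 hi))))
  have hvu : ∀ i ≤ b, v * u ^ i ∈ W (R := R) u v a b := by
    intro i hi
    rcases i with _ | i
    · rw [pow_zero, mul_one]
      have := pow_v_mem (R := R) (u := u) (v := v) (b := b) ha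
      rwa [zero_add, pow_one] at this
    · rw [pow_succ', hvus]
      exact Submodule.smul_mem _ _ (pow_u_mem (by omega))
  have hva : v ^ (a + 1) ∈ W (R := R) u v a b := by
    obtain ⟨a', rfl⟩ : ∃ a', a = a' + 1 := ⟨a - 1, by omega⟩
    rw [Nat.add_sub_cancel] at hq
    have h1 := congrArg (fun z => v * z) hg
    simp only [mul_zero, mul_add, Finset.mul_sum] at h1
    rw [Finset.sum_range_succ (fun j => v * q j • v ^ (j + 1)), hq] at h1
    have h2 : (ε : R) • v ^ (a' + 1 + 1) = -(∑ i ∈ Finset.range (b + 1), v * p i • u ^ i +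
        ∑ j ∈ Finset.range a', v * q j • v ^ (j + 1)) := by
      rw [eq_neg_iff_add_eq_zero, ← h1, mul_smul_comm, pow_succ' v (a' + 1)]
      ring
    have h3 : (ε : R) • v ^ (a' + 1 + 1) ∈ W (R := R) u v (a' + 1) b := by
      rw [h2]
      refine neg_mem (add_mem (Submodule.sum_mem _ fun i hi => ?_)
        (Submodule.sum_mem _ fun i hi => ?_))
      · rw [mul_smul_comm]
        exact Submodule.smul_mem _ _ (hvu i (Nat.lt_succ_iff.1 (Finset.mem_range.1 hi)))
      · rw [mul_smul_comm, ← pow_succ']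
        have := Finset.mem_range.1 hi
        exact Submodule.smul_mem _ _ (pow_v_mem (by omega))
    have h4 := Submodule.smul_mem _ ((ε⁻¹ : Rˣ) : R) h3
    rwa [smul_smul, Units.inv_mul, one_smul] at h4
  have hu : ∀ t ∈ W (R := R) u v a b, u * t ∈ W (R := R) u v a b := by
    intro t ht
    refine W_induction (C := fun t => u * t ∈ W (R := R) u v a b) (by rw [mul_zero]; exact zero_mem _)
      ?_ ?_ ?_ ?_ ht
    · intro x y hx hy
      rw [mul_add]
      exact add_mem hx hy
    · intro r x hx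
      rw [mul_smul_comm]
      exact Submodule.smul_mem _ _ hx
    · intro i hi
      rw [← pow_succ']
      rcases (by omega : i + 1 < b ∨ i + 1 = b) with h | h
      · exact pow_u_mem h
      · rw [h]
        exact hub
    · intro j hj
      rw [pow_succ', huvs]
      rcases j with _ | j
      · rw [pow_zero]
        have := pow_u_mem (R := R) (u := u) (v := v) (a := a) hb
        rw [pow_zero] at this
        exact Submodule.smul_mem _ _ this
      · exact Submodule.smul_mem _ _ (pow_v_mem (by omega))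
  have hv : ∀ t ∈ W (R := R) u v a b, v * t ∈ W (R := R) u v a b := by
    intro t ht
    refine W_induction (C := fun t => v * t ∈ W (R := R) u v a b) (by rw [mul_zero]; exact zero_mem _)
      ?_ ?_ ?_ ?_ ht
    · intro x y hx hy
      rw [mul_add]
      exact add_mem hx hy
    · intro r x hx
      rw [mul_smul_comm]
      exact Submodule.smul_mem _ _ hx
    · intro i hi
      exact hvu i hi.le
    · intro j hj
      rw [← pow_succ']
      rcases (by omega : j + 1 < a ∨ j + 1 = a) with h | h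
      · exact pow_v_mem h
      · rw [h]
        exact hva
  have h1 : (1 : T) ∈ W (R := R) u v a b := by
    have := pow_u_mem (R := R) (u := u) (v := v) (a := a) hb
    rwa [pow_zero] at this
  refine ⟨fun i => ?_, fun i => ?_⟩
  · induction i with
    | zero => rwa [pow_zero]
    | succ i ih => rw [pow_succ']; exact hu _ ih
  · induction i with
    | zero => rwa [pow_zero]
    | succ i ih => rw [pow_succ']; exact hv _ ih

end W

section Quot

variable [IsLocalRing R] {S : Type u} [CommRing S] [Algebra R S]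

theorem pow_mem_quotient {u v : S} {Δ : R} (hΔm : Δ ∈ maximalIdeal R)
    (huv : u * v = algebraMap R S Δ) {φ₁ φ₂ : S →+* PowerSeries (ResidueField R)}
    (h₁ : IsAxis (R := R) u v φ₁) (h₂ : IsAxis (R := R) v u φ₂) (J : Ideal S) (g₁ g₂ : S)
    (hg₁ : g₁ ∈ J) (hg₂ : g₂ ∈ J) (hφ₁ : φ₁ g₁ ≠ 0) (hφ₂ : φ₂ g₂ ≠ 0) :
    ∃ n : ℕ, (Ideal.Quotient.mk J u) ^ (n + 1) ∈ (maximalIdeal R • ⊤ : Submodule R (S ⧸ J)) ∧
        (Ideal.Quotient.mk J v) ^ (n + 1) ∈ (maximalIdeal R • ⊤ : Submodule R (S ⧸ J)) := by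
  have hvu : v * u = algebraMap R S Δ := by rw [mul_comm, huv]
  obtain ⟨n₁, hn₁⟩ := h₁.exists_pow hΔm huv hφ₁
  obtain ⟨n₂, hn₂⟩ := h₂.exists_pow hΔm hvu hφ₂
  have key : ∀ (z g : S), g ∈ J → z ∈ Ideal.span {g} ⊔ (maximalIdeal R).map (algebraMap R S) →
      Ideal.Quotient.mk J z ∈ (maximalIdeal R • ⊤ : Submodule R (S ⧸ J)) := by
    intro z g hg hz
    obtain ⟨x, hx, y, hy, rfl⟩ := Submodule.mem_sup.1 hz
    have hx' : Ideal.Quotient.mk J x = 0 := by
      rw [Ideal.Quotient.eq_zero_iff_mem]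
      exact ((Ideal.span_singleton_le_iff_mem J).2 hg) hx
    rw [map_add, hx', zero_add, Ideal.smul_top_eq_map]
    change Ideal.Quotient.mk J y ∈ (maximalIdeal R).map (algebraMap R (S ⧸ J))
    rw [IsScalarTower.algebraMap_eq R S (S ⧸ J), ← Ideal.map_map]
    exact Ideal.mem_map_of_mem _ hy
  refine ⟨n₁ + n₂, ?_, ?_⟩
  · rw [← map_pow]
    exact key _ g₂ hg₂ (hn₂ _ (by omega))
  · rw [← map_pow]
    exact key _ g₁ hg₁ (hn₁ _ (by omega))

omit [IsLocalRing R] in
theorem gen_quotient {u v : S}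
    (gen : ∀ t : S, ∃ (r : R) (t' t'' : S), t = algebraMap R S r + u * t' + v * t'')
    (J : Ideal S) (t : S ⧸ J) : ∃ (r : R) (t' t'' : S ⧸ J),
      t = algebraMap R (S ⧸ J) r + Ideal.Quotient.mk J u * t' + Ideal.Quotient.mk J v * t'' := by
  obtain ⟨t, rfl⟩ := Ideal.Quotient.mk_surjective t
  obtain ⟨r, t', t'', rfl⟩ := gen t
  exact ⟨r, Ideal.Quotient.mk J t', Ideal.Quotient.mk J t'', by
    rw [map_add, map_add, map_mul, map_mul]; rfl⟩

theorem finite_quotient [IsAdicComplete (maximalIdeal R) R] [IsLocalRing S] [IsNoetherianRing S]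
    [IsLocalHom (algebraMap R S)] {u v : S} {Δ : R} (hΔm : Δ ∈ maximalIdeal R)
    (huv : u * v = algebraMap R S Δ)
    (gen : ∀ t : S, ∃ (r : R) (t' t'' : S), t = algebraMap R S r + u * t' + v * t'')
    {φ₁ φ₂ : S →+* PowerSeries (ResidueField R)}
    (h₁ : IsAxis (R := R) u v φ₁) (h₂ : IsAxis (R := R) v u φ₂) (P : Ideal S)
    (hP₁ : ¬ P ≤ RingHom.ker φ₁) (hP₂ : ¬ P ≤ RingHom.ker φ₂) : Module.Finite R (S ⧸ P) := by
  obtain ⟨g₁, hg₁P, hg₁⟩ := Set.not_subset.1 hP₁
  obtain ⟨g₂, hg₂P, hg₂⟩ := Set.not_subset.1 hP₂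
  obtain ⟨n, hn₁, hn₂⟩ := pow_mem_quotient hΔm huv h₁ h₂ P g₁ g₂ hg₁P hg₂P hg₁ hg₂
  have : IsHausdorff (maximalIdeal R) (S ⧸ P) := AnnFin.isHausdorff_quotient P
  exact (AnnFin.finite_and_eq_top (Ideal.Quotient.mk P u) (Ideal.Quotient.mk P v) hΔm
    (by rw [← map_mul, huv]; rfl) (gen_quotient gen P) hn₁ hn₂ (Submodule.span R
      ((fun i => (Ideal.Quotient.mk P u) ^ i) '' (Set.Iic n) ∪
        (fun i => (Ideal.Quotient.mk P v) ^ i) '' (Set.Iic n)))
    (Submodule.fg_span (((Set.finite_Iic n).image _).union ((Set.finite_Iic n).image _)))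
    (fun i hi => Submodule.subset_span (Or.inl ⟨i, hi, rfl⟩))
    (fun i hi => Submodule.subset_span (Or.inr ⟨i, hi, rfl⟩))).1

end Quot

variable [IsLocalRing R] [IsDomain R] [IsIntegrallyClosed R] [IsAdicComplete (maximalIdeal R) R]

/-- The main theorem on primes finite over `R`. -/
theorem isPrincipal {S : Type u} [CommRing S] [IsLocalRing S] [IsNoetherianRing S] [Algebra R S]
    [IsLocalHom (algebraMap R S)] (u v : S) {Δ : R} (hΔ : Prime Δ) (huv : u * v = algebraMap R S Δ)
    (hu : u ∈ maximalIdeal S) (hv : v ∈ maximalIdeal S)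
    (gen : ∀ t : S, ∃ (r : R) (t' t'' : S), t = algebraMap R S r + u * t' + v * t'')
    (φ₁ φ₂ : S →+* PowerSeries (ResidueField R)) (h₁ : IsAxis (R := R) u v φ₁)
    (h₂ : IsAxis (R := R) v u φ₂) (P : Ideal S) [P.IsPrime]
    (hP : ∀ r, algebraMap R S r ∈ P → r = 0) (hP₁ : ¬ P ≤ RingHom.ker φ₁)
    (hP₂ : ¬ P ≤ RingHom.ker φ₂) : Submodule.IsPrincipal P := by
  have hΔm : Δ ∈ maximalIdeal R := by
    rw [mem_maximalIdeal, mem_nonunits_iff]
    exact hΔ.not_isUnit
  have fin := pow_mem_quotient hΔm huv h₁ h₂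
  have gen' := gen_quotient gen
  have huv' : ∀ J : Ideal S, Ideal.Quotient.mk J u * Ideal.Quotient.mk J v =
      algebraMap R (S ⧸ J) Δ := fun J => by rw [← map_mul, huv]; rfl
  -- `B = S / P`
  have hH : ∀ J : Ideal S, IsHausdorff (maximalIdeal R) (S ⧸ J) := fun J =>
    AnnFin.isHausdorff_quotient J
  have hfin := finite_quotient hΔm huv gen h₁ h₂ P hP₁ hP₂
  have hinj : Function.Injective (algebraMap R (S ⧸ P)) := by
    rw [injective_iff_map_eq_zero]
    intro r hr
    exact hP r (Ideal.Quotient.eq_zero_iff_mem.1 hr)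
  have : FaithfulSMul R (S ⧸ P) := (faithfulSMul_iff_algebraMap_injective R (S ⧸ P)).2 hinj
  have : Module.IsTorsionFree R (S ⧸ P) := inferInstance
  obtain ⟨a, b, ε, p, q, hrel, hpb, hqa, hpa, hind⟩ := AnnKey.exists_data
    (Algebra.IsIntegral.isIntegral (R := R) (Ideal.Quotient.mk P u))
    (Algebra.IsIntegral.isIntegral (R := R) (Ideal.Quotient.mk P v)) hΔ (huv' P)
  -- the generator
  let G : S := ∑ i ∈ Finset.range (b + 1), p i • u ^ i + ∑ j ∈ Finset.range a, q j • v ^ (j + 1)
  have hGJ : ∀ J : Ideal S, Ideal.Quotient.mk J G =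
      ∑ i ∈ Finset.range (b + 1), p i • (Ideal.Quotient.mk J u) ^ i +
        ∑ j ∈ Finset.range a, q j • (Ideal.Quotient.mk J v) ^ (j + 1) := by
    intro J
    simp only [G]
    rw [map_add, map_sum, map_sum]
    rfl
  have hGP : G ∈ P := by
    rw [← Ideal.Quotient.eq_zero_iff_mem, hGJ, hrel]
  have hGm : ¬ IsUnit G := fun h => ‹P.IsPrime›.ne_top (Ideal.eq_top_of_isUnit_mem _ hGP h)
  have hGu : IsUnit (p 0) → False := by
    intro h0
    apply hGm
    have h3 : G - algebraMap R S (p 0) ∈ maximalIdeal S := by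
      simp only [G]
      rw [Finset.sum_range_succ', pow_zero, Algebra.smul_def (p 0), mul_one]
      have : ∑ i ∈ Finset.range b, p (i + 1) • u ^ (i + 1) + algebraMap R S (p 0) +
          ∑ j ∈ Finset.range a, q j • v ^ (j + 1) - algebraMap R S (p 0) =
          ∑ i ∈ Finset.range b, p (i + 1) • u ^ (i + 1) +
            ∑ j ∈ Finset.range a, q j • v ^ (j + 1) := by ring
      rw [this]
      refine add_mem (sum_mem fun i _ => ?_) (sum_mem fun i _ => ?_)
      · rw [Algebra.smul_def]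
        exact Ideal.mul_mem_left _ _ (Ideal.pow_mem_of_mem _ hu _ (Nat.succ_pos _))
      · rw [Algebra.smul_def]
        exact Ideal.mul_mem_left _ _ (Ideal.pow_mem_of_mem _ hv _ (Nat.succ_pos _))
    by_contra hG
    have h4 : algebraMap R S (p 0) ∈ maximalIdeal S := by
      have := sub_mem ((mem_maximalIdeal G).2 hG) h3
      rwa [sub_sub_cancel] at this
    exact h4 (h0.map _)
  have ha : 0 < a := by
    rcases Nat.eq_zero_or_pos a with h | h
    · exfalso
      apply hGu
      rw [hpa h]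
      exact ε.isUnit
    · exact h
  have hb : 0 < b := by
    rcases Nat.eq_zero_or_pos b with h | h
    · exfalso
      apply hGu
      rw [h] at hpb
      rw [hpb]
      exact isUnit_one
    · exact h
  -- `G` is not in the kernels
  have hG₁ : φ₁ G ≠ 0 := by
    intro h
    have h3 := congrArg (PowerSeries.coeff a) h
    simp only [G] at h3
    rw [map_add, map_add, map_sum, map_sum, map_sum, map_sum, map_zero] at h3
    rw [Finset.sum_eq_zero (s := Finset.range (b + 1)), zero_add,
      Finset.sum_eq_single (a - 1)] at h3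
    · rw [Algebra.smul_def, map_mul, map_pow, h₁.map_y, h₁.map_algebraMap, PowerSeries.coeff_C_mul,
        PowerSeries.coeff_X_pow, if_pos (by omega), mul_one, hqa ha] at h3
      exact (ε.isUnit.map (residue R)).ne_zero h3
    · intro j hj hja
      have := Finset.mem_range.1 hj
      rw [Algebra.smul_def, map_mul, map_pow, h₁.map_y, h₁.map_algebraMap, PowerSeries.coeff_C_mul,
        PowerSeries.coeff_X_pow, if_neg (by omega), mul_zero]
    · intro h5
      exact absurd (Finset.mem_range.2 (by omega)) h5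
    · intro i hi
      rw [Algebra.smul_def, map_mul, map_pow, h₁.map_x, h₁.map_algebraMap]
      rcases i with _ | i
      · rw [pow_zero, mul_one, PowerSeries.coeff_C, if_neg (by omega)]
      · rw [pow_succ, mul_zero, mul_zero, map_zero]
  have hG₂ : φ₂ G ≠ 0 := by
    intro h
    have h3 := congrArg (PowerSeries.coeff b) h
    simp only [G] at h3
    rw [map_add, map_add, map_sum, map_sum, map_sum, map_sum, map_zero] at h3
    rw [Finset.sum_eq_zero (s := Finset.range a), add_zero, Finset.sum_eq_single b] at h3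
    · rw [Algebra.smul_def, map_mul, map_pow, h₂.map_y, h₂.map_algebraMap, PowerSeries.coeff_C_mul,
        PowerSeries.coeff_X_pow, if_pos rfl, mul_one, hpb, map_one] at h3
      exact one_ne_zero h3
    · intro j hj hjb
      rw [Algebra.smul_def, map_mul, map_pow, h₂.map_y, h₂.map_algebraMap, PowerSeries.coeff_C_mul,
        PowerSeries.coeff_X_pow, if_neg (Ne.symm hjb), mul_zero]
    · intro h5
      exact absurd (Finset.mem_range.2 (by omega)) h5
    · intro i hi
      rw [Algebra.smul_def, map_mul, map_pow, h₂.map_x, pow_succ, mul_zero, mul_zero, map_zero]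
  -- `S / G` is spanned by `W`
  obtain ⟨m, hm₁, hm₂⟩ := fin (Ideal.span {G}) G G (Ideal.mem_span_singleton_self _)
    (Ideal.mem_span_singleton_self _) hG₁ hG₂
  have := hH (Ideal.span {G})
  have hrelG : ∑ i ∈ Finset.range (b + 1), p i • (Ideal.Quotient.mk (Ideal.span {G}) u) ^ i +
        ∑ j ∈ Finset.range a, q j • (Ideal.Quotient.mk (Ideal.span {G}) v) ^ (j + 1) = 0 := by
    rw [← hGJ, Ideal.Quotient.eq_zero_iff_mem]
    exact Ideal.mem_span_singleton_self _
  obtain ⟨hWu, hWv⟩ := pow_mem (huv' (Ideal.span {G})) ha hb ε p q hrelG hpb (hqa ha)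
  obtain ⟨-, hW⟩ := AnnFin.finite_and_eq_top (Ideal.Quotient.mk (Ideal.span {G}) u)
    (Ideal.Quotient.mk (Ideal.span {G}) v) hΔm (huv' _) (gen' _) hm₁ hm₂
    (W (Ideal.Quotient.mk (Ideal.span {G}) u) (Ideal.Quotient.mk (Ideal.span {G}) v) a b) W_fg
    (fun i _ => hWu i) (fun i _ => hWv i)
  refine ⟨⟨G, le_antisymm (fun x hx => ?_) ?_⟩⟩
  · change x ∈ Ideal.span {G}
    have hx' : Ideal.Quotient.mk (Ideal.span {G}) x ∈ W (R := R)
      (Ideal.Quotient.mk (Ideal.span {G}) u) (Ideal.Quotient.mk (Ideal.span {G}) v) a b := by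
      rw [hW]
      trivial
    obtain ⟨r, s, hrs⟩ := exists_repr hx'
    have hle : Ideal.span {G} ≤ P := by
      rwa [Ideal.span_singleton_le_iff_mem]
    have h3 := congrArg (Ideal.Quotient.factor hle) hrs
    rw [Ideal.Quotient.factor_mk, Ideal.Quotient.eq_zero_iff_mem.2 hx, map_add, map_sum, map_sum] at h3
    obtain ⟨hr, hs⟩ := hind r s h3.symm
    rw [← Ideal.Quotient.eq_zero_iff_mem, hrs, Finset.sum_eq_zero, Finset.sum_eq_zero, add_zero]
    · intro j hj
      rw [hs j (Finset.mem_range.1 hj), zero_smul]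
    · intro j hj
      rw [hr j (Finset.mem_range.1 hj), zero_smul]
  · change Ideal.span {G} ≤ P
    rwa [Ideal.span_singleton_le_iff_mem]

end K83.AnnPrin
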