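import Groth.Agent.CohtopA.GmDivAlg

/-!
# Factoriality from two regular points (moving lemma)

`S` a Noetherian domain, `Q₁, Q₂` two primes with factorial local rings; if every prime of height one
contained in neither is principal then `S` is factorial.
-/

set_option autoImplicit false

universe u

namespace K83.AnnUfd

variable {S : Type u} [CommRing S] [IsDomain S] [IsNoetherianRing S]

/-- The hypothesis: a local generator of `P` at `Q`. -/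
def IsLocGen (Q P : Ideal S) (f : S) : Prop :=
  f ∈ P ∧ f ≠ 0 ∧ ∀ x ∈ P, ∃ s : S, s ∉ Q ∧ ∃ y, s * x = y * f

omit [IsNoetherianRing S] in
theorem exists_not_mem_bad {Q P : Ideal S} [Q.IsPrime] {f₀ : S} (hf₀ : IsLocGen Q P f₀) :
    ∃ N : Ideal S, f₀ ∉ N ∧ ∀ f ∈ P, f ∉ N → IsLocGen Q P f := by
  let N : Ideal S :=
    { carrier := {x | ∃ s : S, s ∉ Q ∧ ∃ q ∈ Q, s * x = q * f₀}
      add_mem' := by
        rintro x y ⟨s, hs, q, hq, h⟩ ⟨s', hs', q', hq', h'⟩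
        refine ⟨s * s', fun hh => ?_, s' * q + s * q', ?_, ?_⟩
        · rcases ‹Q.IsPrime›.mem_or_mem hh with h1 | h1
          · exact hs h1
          · exact hs' h1
        · exact add_mem (Q.mul_mem_left _ hq) (Q.mul_mem_left _ hq')
        · linear_combination s' * h + s * h'
      zero_mem' := ⟨1, fun h => ‹Q.IsPrime›.ne_top ((Ideal.eq_top_iff_one _).2 h), 0, zero_mem _, by simp⟩
      smul_mem' := by
        rintro c x ⟨s, hs, q, hq, h⟩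
        refine ⟨s, hs, c * q, Q.mul_mem_left _ hq, ?_⟩
        rw [smul_eq_mul]
        linear_combination c * h }
  refine ⟨N, ?_, ?_⟩
  · rintro ⟨s, hs, q, hq, h⟩
    have := mul_right_cancel₀ hf₀.2.1 h
    exact hs (this ▸ hq)
  · intro f hf hfN
    obtain ⟨s, hs, a, ha⟩ := hf₀.2.2 f hf
    have haQ : a ∉ Q := fun h => hfN ⟨s, hs, a, h, ha⟩
    refine ⟨hf, ?_, fun x hx => ?_⟩
    · rintro rfl
      exact hfN (zero_mem N)
    · obtain ⟨t, ht, b, hb⟩ := hf₀.2.2 x hx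
      refine ⟨a * t, fun hh => ?_, b * s, ?_⟩
      · rcases ‹Q.IsPrime›.mem_or_mem hh with h1 | h1
        · exact haQ h1
        · exact ht h1
      · linear_combination a * hb - b * ha

theorem exists_isLocGen (Q P : Ideal S) [Q.IsPrime] [P.IsPrime]
    [UniqueFactorizationMonoid (Localization.AtPrime Q)] (hP : P.height = 1) :
    ∃ f, IsLocGen Q P f := by
  obtain ⟨g, π, hg, hπ, h | ⟨h1, h2⟩⟩ :=
    Groth.Agent.CohtopA.GmDivAlg.exists_generator Q P hP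
  · refine ⟨g, h, ?_, fun x _ => ⟨g, hg, x, mul_comm _ _⟩⟩
    rintro rfl
    exact hg (zero_mem _)
  · exact ⟨π, h1, hπ, fun x hx => ⟨g, hg, h2 x hx⟩⟩

omit [IsDomain S] [IsNoetherianRing S] in
/-- Union of two proper submodules. -/
theorem exists_not_mem_two {P N₁ N₂ : Ideal S} {f₁ f₂ : S} (h₁ : f₁ ∈ P) (h₂ : f₂ ∈ P)
    (h₁' : f₁ ∉ N₁) (h₂' : f₂ ∉ N₂) : ∃ f ∈ P, f ∉ N₁ ∧ f ∉ N₂ := by
  by_cases h : f₁ ∈ N₂
  · by_cases h' : f₂ ∈ N₁
    · refine ⟨f₁ + f₂, add_mem h₁ h₂, fun hh => h₁' ?_, fun hh => h₂' ?_⟩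
      · simpa using sub_mem hh h'
      · simpa using sub_mem hh h
    · exact ⟨f₂, h₂, h', h₂'⟩
  · exact ⟨f₁, h₁, h₁', h⟩

theorem exists_prime_dvd {Q₁ Q₂ : Ideal S}
    (H : ∀ P : Ideal S, P.IsPrime → P.height = 1 → ¬ P ≤ Q₁ → ¬ P ≤ Q₂ → Submodule.IsPrincipal P)
    {t : S} (ht₁ : t ∉ Q₁) (ht₂ : t ∉ Q₂) (hu : ¬ IsUnit t) :
    ∃ π, Prime π ∧ π ∣ t ∧ π ∉ Q₁ ∧ π ∉ Q₂ := by
  have ht0 : t ≠ 0 := by
    rintro rfl
    exact ht₁ (zero_mem _)
  obtain ⟨P, hP⟩ : Nonempty (Ideal.span {t}).minimalPrimes :=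
    Ideal.nonempty_minimalPrimes (by rwa [Ne, Ideal.span_singleton_eq_top])
  have hPp : P.IsPrime := hP.1.1
  have htP : t ∈ P := hP.1.2 (Ideal.mem_span_singleton_self t)
  have hht : P.height = 1 := by
    apply le_antisymm
    · exact Ideal.height_le_one_of_isPrincipal_of_mem_minimalPrimes _ P hP
    · rw [← Ideal.height_span_singleton_eq_one_of_mem_nonZeroDivisors
        (mem_nonZeroDivisors_of_ne_zero ht0) hu]
      exact Ideal.height_mono hP.1.2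
  obtain ⟨π, hπ⟩ := H P hPp hht (fun h => ht₁ (h htP)) (fun h => ht₂ (h htP))
  have hπ' : P = Ideal.span {π} := hπ
  have hd : π ∣ t := by
    rw [← Ideal.mem_span_singleton, ← hπ']
    exact htP
  have hπ0 : π ≠ 0 := by
    rintro rfl
    exact ht0 (zero_dvd_iff.1 hd)
  refine ⟨π, ?_, hd, ?_, ?_⟩
  · rw [← Ideal.span_singleton_prime hπ0, ← hπ']
    exact hPp
  · intro h
    obtain ⟨s, rfl⟩ := hd
    exact ht₁ (Q₁.mul_mem_right _ h)
  · intro h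
    obtain ⟨s, rfl⟩ := hd
    exact ht₂ (Q₂.mul_mem_right _ h)

theorem cancel {Q₁ Q₂ : Ideal S} [Q₁.IsPrime] [Q₂.IsPrime]
    (H : ∀ P : Ideal S, P.IsPrime → P.height = 1 → ¬ P ≤ Q₁ → ¬ P ≤ Q₂ → Submodule.IsPrincipal P)
    {f : S} (hf : ∀ π, Prime π → π ∉ Q₁ → π ∉ Q₂ → ¬ π ∣ f) (t : S) :
    ∀ (_ : t ∉ Q₁) (_ : t ∉ Q₂) (x y : S), t * x = y * f → f ∣ x := by
  induction t using WfDvdMonoid.induction_on_irreducible with
  | zero => intro h; exact absurd (zero_mem _) h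
  | unit w hw =>
    intro _ _ x y h
    obtain ⟨w, rfl⟩ := hw
    refine ⟨↑w⁻¹ * y, ?_⟩
    have : x = ↑w⁻¹ * (↑w * x) := by rw [← mul_assoc, Units.inv_mul, one_mul]
    rw [this, h]
    ring
  | mul a i ha hi ih =>
    intro h₁ h₂ x y h
    -- `i` is irreducible in `T`, hence prime
    have hi₁ : i ∉ Q₁ := fun hh => h₁ (Q₁.mul_mem_right _ hh)
    have hi₂ : i ∉ Q₂ := fun hh => h₂ (Q₂.mul_mem_right _ hh)
    obtain ⟨π, hπ, hd, hπ₁, hπ₂⟩ := exists_prime_dvd H hi₁ hi₂ hi.not_isUnit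
    have has : Associated π i := (hπ.irreducible.dvd_irreducible_iff_associated hi).1 hd
    have hip : Prime i := has.prime hπ
    have h3 : i ∣ y * f := ⟨a * x, by rw [← h]; ring⟩
    rcases hip.dvd_or_dvd h3 with h4 | h4
    · obtain ⟨y', rfl⟩ := h4
      refine ih (fun hh => h₁ (Q₁.mul_mem_left _ hh)) (fun hh => h₂ (Q₂.mul_mem_left _ hh)) x y' ?_
      apply mul_left_cancel₀ hip.ne_zero
      rw [← mul_assoc, h]
      ring
    · exact absurd h4 (hf i hip hi₁ hi₂)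

theorem isPrincipal_of_height_one {Q₁ Q₂ : Ideal S} [Q₁.IsPrime] [Q₂.IsPrime]
    [UniqueFactorizationMonoid (Localization.AtPrime Q₁)]
    [UniqueFactorizationMonoid (Localization.AtPrime Q₂)]
    (H : ∀ P : Ideal S, P.IsPrime → P.height = 1 → ¬ P ≤ Q₁ → ¬ P ≤ Q₂ → Submodule.IsPrincipal P)
    (P : Ideal S) [P.IsPrime] (hP : P.height = 1) : Submodule.IsPrincipal P := by
  by_cases hc : ¬ P ≤ Q₁ ∧ ¬ P ≤ Q₂
  · exact H P ‹_› hP hc.1 hc.2
  have hc' : ∀ π, π ∉ Q₁ → π ∉ Q₂ → π ∉ P := by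
    intro π h1 h2 h3
    apply hc
    exact ⟨fun h => h1 (h h3), fun h => h2 (h h3)⟩
  obtain ⟨f₁, hf₁⟩ := exists_isLocGen Q₁ P hP
  obtain ⟨f₂, hf₂⟩ := exists_isLocGen Q₂ P hP
  obtain ⟨N₁, hN₁, hN₁'⟩ := exists_not_mem_bad hf₁
  obtain ⟨N₂, hN₂, hN₂'⟩ := exists_not_mem_bad hf₂
  obtain ⟨f₀, hf₀, hf₀'⟩ := exists_not_mem_two hf₁.1 hf₂.1 hN₁ hN₂
  -- minimal element for divisibility
  obtain ⟨f, ⟨hfP, hfN₁, hfN₂⟩, hmin⟩ := (wellFounded_dvdNotUnit (α := S)).has_min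
    {f | f ∈ P ∧ f ∉ N₁ ∧ f ∉ N₂} ⟨f₀, hf₀, hf₀'⟩
  have hf0 : f ≠ 0 := by
    rintro rfl
    exact hfN₁ (zero_mem _)
  have hnd : ∀ π, Prime π → π ∉ Q₁ → π ∉ Q₂ → ¬ π ∣ f := by
    rintro π hπ h₁ h₂ ⟨g, rfl⟩
    have hg : g ∈ P := (‹P.IsPrime›.mem_or_mem hfP).resolve_left (hc' π h₁ h₂)
    refine hmin g ⟨hg, fun h => hfN₁ (N₁.mul_mem_left _ h), fun h => hfN₂ (N₂.mul_mem_left _ h)⟩ ?_
    refine ⟨right_ne_zero_of_mul hf0, π, hπ.not_isUnit, mul_comm _ _⟩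
  have g₁ := hN₁' f hfP hfN₁
  have g₂ := hN₂' f hfP hfN₂
  refine ⟨⟨f, le_antisymm (fun x hx => ?_) ?_⟩⟩
  · change x ∈ Ideal.span {f}
    rw [Ideal.mem_span_singleton]
    obtain ⟨s₁, hs₁, y₁, hy₁⟩ := g₁.2.2 x hx
    obtain ⟨s₂, hs₂, y₂, hy₂⟩ := g₂.2.2 x hx
    -- an element of the colon ideal avoiding both primes
    let C : Ideal S := Submodule.comap (LinearMap.mulRight S x) (Ideal.span {f})
    have hC : ∀ s, s ∈ C ↔ ∃ y, s * x = y * f := by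
      intro s
      change s * x ∈ Ideal.span {f} ↔ _
      rw [Ideal.mem_span_singleton']
      exact ⟨fun ⟨a, ha⟩ => ⟨a, ha.symm⟩, fun ⟨a, ha⟩ => ⟨a, ha.symm⟩⟩
    obtain ⟨t, htC, ht₁, ht₂⟩ := exists_not_mem_two (P := C) (N₁ := Q₁) (N₂ := Q₂)
      ((hC s₁).2 ⟨y₁, hy₁⟩) ((hC s₂).2 ⟨y₂, hy₂⟩) hs₁ hs₂
    obtain ⟨y, hy⟩ := (hC t).1 htC
    exact cancel H hnd t ht₁ ht₂ x y hy
  · change Ideal.span {f} ≤ P
    rwa [Ideal.span_singleton_le_iff_mem]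

theorem ufd {Q₁ Q₂ : Ideal S} [Q₁.IsPrime] [Q₂.IsPrime]
    [UniqueFactorizationMonoid (Localization.AtPrime Q₁)]
    [UniqueFactorizationMonoid (Localization.AtPrime Q₂)]
    (H : ∀ P : Ideal S, P.IsPrime → P.height = 1 → ¬ P ≤ Q₁ → ¬ P ≤ Q₂ → Submodule.IsPrincipal P) :
    UniqueFactorizationMonoid S := by
  rw [UniqueFactorizationMonoid.iff_exists_prime_mem_of_isPrime]
  intro I hI hIp
  obtain ⟨t, htI, ht0⟩ := Submodule.exists_mem_ne_zero_of_ne_bot hI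
  have hu : ¬ IsUnit t := fun h => hIp.ne_top (Ideal.eq_top_of_isUnit_mem _ htI h)
  obtain ⟨P, hP, hPI⟩ := Ideal.exists_minimalPrimes_le (I := Ideal.span {t}) (J := I)
    (by rwa [Ideal.span_singleton_le_iff_mem])
  have hPp : P.IsPrime := hP.1.1
  have htP : t ∈ P := hP.1.2 (Ideal.mem_span_singleton_self t)
  have hht : P.height = 1 := by
    apply le_antisymm
    · exact Ideal.height_le_one_of_isPrincipal_of_mem_minimalPrimes _ P hP
    · rw [← Ideal.height_span_singleton_eq_one_of_mem_nonZeroDivisors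
        (mem_nonZeroDivisors_of_ne_zero ht0) hu]
      exact Ideal.height_mono hP.1.2
  obtain ⟨π, hπ⟩ := isPrincipal_of_height_one H P hht
  have hπ' : P = Ideal.span {π} := hπ
  have hπ0 : π ≠ 0 := by
    rintro rfl
    rw [hπ', Ideal.mem_span_singleton, zero_dvd_iff] at htP
    exact ht0 htP
  refine ⟨π, hPI (by rw [hπ']; exact Ideal.mem_span_singleton_self _), ?_⟩
  rw [← Ideal.span_singleton_prime hπ0, ← hπ']
  exact hPp

end K83.AnnUfd
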