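import Groth.Agent.CAlg.K83.AnnDim
import Groth.Agent.CAlg.K83.AnnPrin
import Groth.Agent.CAlg.K83.AnnUfd

/-!
# Factoriality of `R[[u,v]]/(uv - Δ)`
-/

set_option autoImplicit false

universe u

open MvPowerSeries IsLocalRing

namespace K83.AnnMain

open AnnRing AnnDim

variable {R : Type u} [CommRing R]

section

variable [IsLocalRing R] {Δ : R} (hΔ : Δ ∈ maximalIdeal R)

include hΔ in
theorem res_eq_zero : residue R Δ = 0 := (residue_eq_zero_iff _).2 hΔ

theorem isAxis [IsNoetherianRing R] {i j : Fin 2} (h : j ≠ i) :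
    AnnPrin.IsAxis (R := R) (Ideal.Quotient.mk _ (X j) : S Δ) (Ideal.Quotient.mk _ (X i))
      (axS Δ (residue R) (res_eq_zero hΔ) i) where
  surj := axS_surjective _ _ _ residue_surjective
  map_x := axS_X_ne _ _ _ h
  map_y := axS_X_self _ _ _
  map_algebraMap := axS_algebraMap _ _ _
  ker_le := by
    have := ker_axS_le (residue R) (res_eq_zero hΔ) i h (IsNoetherian.noetherian _)
    rwa [ker_residue] at this

end

section Reg

variable [IsRegularLocalRing R] {Δ : R} (hΔ : Δ ∈ maximalIdeal R)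

/-- The generic points of the closed fibre are regular points. -/
theorem isRegularLocalRing_loc {i j : Fin 2} (h : j ≠ i) (Q : Ideal (S Δ)) [Q.IsPrime]
    (hQ : Q = RingHom.ker (axS Δ (residue R) (res_eq_zero hΔ) i)) :
    IsRegularLocalRing (Localization.AtPrime Q) := by
  refine IsRegularLocalRing.of_spanFinrank_maximalIdeal_le _ ?_
  -- the maximal ideal is extended from `R`
  have hmax : maximalIdeal (Localization.AtPrime Q) =
      (maximalIdeal R).map ((algebraMap (S Δ) (Localization.AtPrime Q)).comp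
        (algebraMap R (S Δ))) := by
    rw [← Localization.AtPrime.map_eq_maximalIdeal, ← Ideal.map_map]
    apply le_antisymm
    · rw [Ideal.map_le_iff_le_comap]
      have hle : Q ≤ (maximalIdeal R).map (algebraMap R (S Δ)) ⊔
          Ideal.span {Ideal.Quotient.mk _ (X j)} := by
        rw [hQ]
        exact (isAxis hΔ h).ker_le
      refine hle.trans (sup_le ?_ ?_)
      · exact Ideal.le_comap_map
      · rw [Ideal.span_singleton_le_iff_mem, Ideal.mem_comap]
        have hi : (Ideal.Quotient.mk _ (X i) : S Δ) ∉ Q := by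
          rw [hQ, RingHom.mem_ker, axS_X_self]
          exact PowerSeries.X_ne_zero
        have hu : IsUnit (algebraMap (S Δ) (Localization.AtPrime Q) (Ideal.Quotient.mk _ (X i))) :=
          IsLocalization.map_units (Localization.AtPrime Q)
            (⟨_, hi⟩ : Q.primeCompl)
        rw [← Ideal.mul_unit_mem_iff_mem _ hu, ← map_mul]
        apply Ideal.mem_map_of_mem
        have : (Ideal.Quotient.mk _ (X j) : S Δ) * Ideal.Quotient.mk _ (X i) =
            algebraMap R (S Δ) Δ := by
          rw [← mk_uv]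
          rcases (by omega : (j = 0 ∧ i = 1) ∨ (j = 1 ∧ i = 0)) with ⟨rfl, rfl⟩ | ⟨rfl, rfl⟩
          · rfl
          · exact mul_comm _ _
        rw [this]
        exact Ideal.mem_map_of_mem _ hΔ
    · apply Ideal.map_mono
      rw [hQ, Ideal.map_le_iff_le_comap]
      intro r hr
      rw [Ideal.mem_comap, RingHom.mem_ker, axS_algebraMap, (residue_eq_zero_iff _).2 hr, map_zero]
  have hsp : (maximalIdeal (Localization.AtPrime Q)).spanFinrank ≤
      (maximalIdeal R).spanFinrank := by
    rw [hmax]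
    exact Ideal.spanFinrank_map_le_of_fg _ (IsNoetherian.noetherian _)
  -- the height
  have hdim : ringKrullDim (S Δ ⧸ Q) = 1 := by
    have hs := (isAxis hΔ h).surj
    rw [ringKrullDim_eq_of_ringEquiv ((Ideal.quotEquivOfEq hQ).trans
      (RingHom.quotientKerEquivOfSurjective hs)),
      Groth.Agent.CalgB.PowSerMap.ringKrullDim_powerSeries, ringKrullDim_eq_zero_of_field, zero_add]
  have h1 := le_height_add Δ Q
  rw [hdim] at h1
  rw [IsLocalization.AtPrime.ringKrullDim_eq_height Q]
  refine le_trans ?_ (le_of_add_one_le_add_one h1)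
  rw [← IsRegularLocalRing.spanFinrank_maximalIdeal (R := R)]
  exact_mod_cast hsp

theorem eq_zero_aux {R B : Type u} [CommRing R] [IsDomain R] [CommRing B] [Algebra R B]
    [Module.Finite R B] {d : ℕ} (hd : ringKrullDim R = d) (h2 : ringKrullDim R ≤ ringKrullDim B)
    (r : R) (hr : algebraMap R B r = 0) : r = 0 := by
  by_contra hr0
  have hle : ∀ a ∈ Ideal.span {r}, algebraMap R B a = 0 := by
    intro a ha
    obtain ⟨c, rfl⟩ := Ideal.mem_span_singleton'.1 ha
    rw [map_mul, hr, mul_zero]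
  let _ : Algebra (R ⧸ Ideal.span {r}) B := (Ideal.Quotient.lift _ (algebraMap R B) hle).toAlgebra
  have : IsScalarTower R (R ⧸ Ideal.span {r}) B := IsScalarTower.of_algebraMap_eq fun x => rfl
  have hfin : Module.Finite (R ⧸ Ideal.span {r}) B :=
    Module.Finite.of_restrictScalars_finite R _ _
  have h3 : ringKrullDim B ≤ ringKrullDim (R ⧸ Ideal.span {r}) := by
    refine Order.krullDim_le_of_strictMono
      (PrimeSpectrum.comap (algebraMap (R ⧸ Ideal.span {r}) B)) ?_
    intro P Q hPQ
    exact Ideal.IsIntegral.comap_lt_comap (R := R ⧸ Ideal.span {r}) (I := P.asIdeal)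
      (J := Q.asIdeal) hPQ
  have h4 : ringKrullDim (R ⧸ Ideal.span {r}) + 1 ≤ ringKrullDim R :=
    ringKrullDim_quotient_succ_le_of_nonZeroDivisor (mem_nonZeroDivisors_of_ne_zero hr0)
  have h5 : ringKrullDim R + 1 ≤ ringKrullDim R := by
    refine le_trans ?_ h4
    gcongr
    exact h2.trans h3
  rw [hd] at h5
  have h6 : d + 1 ≤ d := by exact_mod_cast h5
  omega

/-- A prime of height one with finite quotient does not meet `R`. -/
theorem eq_zero_of_mem [IsDomain R] (P : Ideal (S Δ)) [P.IsPrime] (hP : P.height = 1)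
    [Module.Finite R (S Δ ⧸ P)] (r : R) (hr : algebraMap R (S Δ) r ∈ P) : r = 0 := by
  have h1 := le_height_add Δ P
  rw [hP] at h1
  have h2 : ringKrullDim R ≤ ringKrullDim (S Δ ⧸ P) := by
    apply le_of_add_one_le_add_one
    refine h1.trans (le_of_eq ?_)
    rw [add_comm]
    rfl
  obtain ⟨d, hd⟩ : ∃ d : ℕ, ringKrullDim R = d :=
    ⟨_, (IsRegularLocalRing.spanFinrank_maximalIdeal (R := R)).symm⟩
  have h3 : Ideal.Quotient.mk P (algebraMap R (S Δ) r) = 0 := by
    rwa [Ideal.Quotient.eq_zero_iff_mem]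
  exact eq_zero_aux (B := S Δ ⧸ P) hd h2 r h3

end Reg

theorem isDomain [IsRegularLocalRing R] [IsDomain R] {Δ : R} (hΔ : Prime Δ) : IsDomain (S Δ) := by
  have hΔm : Δ ∈ maximalIdeal R := by
    rw [mem_maximalIdeal, mem_nonunits_iff]
    exact hΔ.not_isUnit
  have := isLocalRing_S hΔm
  exact isDomain_of_prime _ (X_mem hΔm 0) (isPrime_span_X hΔ (i := 1) (j := 0) (by decide))
    (fun y hy => mul_X_eq_zero hΔ.ne_zero hy)

theorem ufd [IsRegularLocalRing R] [IsAdicComplete (maximalIdeal R) R] {Δ : R} (hΔ : Prime Δ)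
    [IsDomain (S Δ)] : UniqueFactorizationMonoid (S Δ) := by
  obtain ⟨hRd, hRu⟩ := Groth.Agent.S2821.result R
  have hΔm : Δ ∈ maximalIdeal R := by
    rw [mem_maximalIdeal, mem_nonunits_iff]
    exact hΔ.not_isUnit
  have := isLocalRing_S hΔm
  have := isLocalHom_algebraMap hΔm
  set Q₁ := RingHom.ker (axS Δ (residue R) (res_eq_zero hΔm) 1) with hQ₁
  set Q₂ := RingHom.ker (axS Δ (residue R) (res_eq_zero hΔm) 0) with hQ₂
  have hp₁ : Q₁.IsPrime := RingHom.ker_isPrime _
  have hp₂ : Q₂.IsPrime := RingHom.ker_isPrime _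
  have hr₁ := isRegularLocalRing_loc hΔm (i := 1) (j := 0) (by decide) Q₁ hQ₁
  have hr₂ := isRegularLocalRing_loc hΔm (i := 0) (j := 1) (by decide) Q₂ hQ₂
  have hu₁ : UniqueFactorizationMonoid (Localization.AtPrime Q₁) :=
    (Groth.Agent.S2821.result (Localization.AtPrime Q₁)).2
  have hu₂ : UniqueFactorizationMonoid (Localization.AtPrime Q₂) :=
    (Groth.Agent.S2821.result (Localization.AtPrime Q₂)).2
  refine AnnUfd.ufd (Q₁ := Q₁) (Q₂ := Q₂) ?_
  intro P hPp hP h₁ h₂
  have ax₁ := isAxis hΔm (i := 1) (j := 0) (by decide)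
  have ax₂ := isAxis hΔm (i := 0) (j := 1) (by decide)
  have hfin : Module.Finite R (S Δ ⧸ P) :=
    AnnPrin.finite_quotient hΔm (mk_uv Δ) (gen_S Δ) ax₁ ax₂ P h₁ h₂
  exact AnnPrin.isPrincipal _ _ hΔ (mk_uv Δ) (X_mem hΔm 0) (X_mem hΔm 1) (gen_S Δ) _ _ ax₁ ax₂ P
    (eq_zero_of_mem P hP) h₁ h₂

/-- The converse. -/
theorem prime_of_ufd [IsRegularLocalRing R] {Δ : R} (hΔm : Δ ∈ maximalIdeal R) [IsDomain (S Δ)]
    [UniqueFactorizationMonoid (S Δ)] : Prime Δ := by
  obtain ⟨hRd, -⟩ := Groth.Agent.S2821.result R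
  have := isLocalRing_S hΔm
  -- `u` is irreducible
  let φ := axS Δ (residue R) (res_eq_zero hΔm) 0
  have hφ : IsLocalHom φ := by
    exact IsLocalHom.of_surjective φ (isAxis hΔm (i := 0) (j := 1) (by decide)).surj
  have hirr : Irreducible (Ideal.Quotient.mk _ (X 0) : S Δ) := by
    have h1 : Irreducible (φ (Ideal.Quotient.mk _ (X 0))) := by
      rw [axS_X_self]
      exact PowerSeries.X_irreducible
    exact h1.of_map
  have hpr := hirr.prime
  have hker := ker_axis (R := R) Δ (i := 1) (j := 0) (by decide)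
  have hp : (Ideal.span {(Ideal.Quotient.mk _ (X 0) : S Δ)}).IsPrime :=
    (Ideal.span_singleton_prime hpr.ne_zero).2 hpr
  rw [← hker] at hp
  set ψ := axS Δ (Ideal.Quotient.mk (Ideal.span {Δ}))
      (Ideal.Quotient.eq_zero_iff_mem.2 (Ideal.mem_span_singleton_self _)) 1 with hψ
  have key : ∀ a : R, algebraMap R (S Δ) a ∈ RingHom.ker ψ ↔ Δ ∣ a := by
    intro a
    rw [RingHom.mem_ker, hψ, axS_algebraMap, ← Ideal.mem_span_singleton,
      ← Ideal.Quotient.eq_zero_iff_mem]
    constructor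
    · intro h
      have := congrArg PowerSeries.constantCoeff h
      rwa [PowerSeries.constantCoeff_C, map_zero] at this
    · intro h
      rw [h, map_zero]
  refine ⟨?_, hΔm, ?_⟩
  · -- `Δ ≠ 0` since `u v = Δ`
    intro h0
    have h1 := mk_uv Δ
    have h1' : algebraMap R (S Δ) Δ = 0 := (congrArg (algebraMap R (S Δ)) h0).trans (map_zero _)
    rw [h1'] at h1
    rcases mul_eq_zero.1 h1 with h2 | h2
    · exact hpr.ne_zero h2
    · have h3 := congrArg (axS Δ (residue R) (res_eq_zero hΔm) 1) h2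
      rw [axS_X_self, map_zero] at h3
      exact PowerSeries.X_ne_zero h3
  · intro a b hab
    rw [← key, ← key]
    apply hp.mem_or_mem
    rw [← map_mul, key]
    exact hab

end K83.AnnMain
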