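import Groth.Agent.CalgB.PowSerHt
import Mathlib.RingTheory.MvPowerSeries.NoZeroDivisors

/-!
# The ring `R[[u,v]]/(uv - Δ)`: axes
-/

set_option autoImplicit false

universe u v

open MvPowerSeries

namespace K83.AnnRing

variable {R : Type u} [CommRing R]

/-- Restriction of a power series in two variables to an axis. -/
noncomputable def ax (i : Fin 2) : MvPowerSeries (Fin 2) R →+* PowerSeries R where
  toFun f := PowerSeries.mk fun n => coeff (Finsupp.single i n) f
  map_one' := by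
    ext n
    rw [PowerSeries.coeff_mk, MvPowerSeries.coeff_one, PowerSeries.coeff_one]
    simp [Finsupp.single_eq_zero]
  map_mul' f g := by
    ext n
    rw [PowerSeries.coeff_mk, MvPowerSeries.coeff_mul, PowerSeries.coeff_mul,
      Finsupp.antidiagonal_single, Finset.sum_map]
    refine Finset.sum_congr rfl fun x _ => ?_
    simp
  map_zero' := by
    ext n
    simp
  map_add' f g := by
    ext n
    simp

theorem coeff_ax (i : Fin 2) (f : MvPowerSeries (Fin 2) R) (n : ℕ) :
    PowerSeries.coeff n (ax i f) = coeff (Finsupp.single i n) f := by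
  change PowerSeries.coeff n (PowerSeries.mk fun n => coeff (Finsupp.single i n) f) = _
  rw [PowerSeries.coeff_mk]

theorem ax_C (i : Fin 2) (r : R) : ax i (C r) = PowerSeries.C r := by
  ext n
  rw [coeff_ax, MvPowerSeries.coeff_C, PowerSeries.coeff_C]
  simp [Finsupp.single_eq_zero]

theorem ax_X_self (i : Fin 2) : ax i (X i : MvPowerSeries (Fin 2) R) = PowerSeries.X := by
  ext n
  rw [coeff_ax, MvPowerSeries.coeff_X, PowerSeries.coeff_X]
  have : Finsupp.single i n = Finsupp.single i 1 ↔ n = 1 :=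
    ⟨fun h => Finsupp.single_injective i h, fun h => by rw [h]⟩
  simp only [this]

theorem ax_X_ne {i j : Fin 2} (h : j ≠ i) : ax i (X j : MvPowerSeries (Fin 2) R) = 0 := by
  ext n
  rw [coeff_ax, MvPowerSeries.coeff_X, map_zero, if_neg]
  intro h'
  have := DFunLike.congr_fun h' j
  simp [h.symm] at this

theorem ax_surjective (i : Fin 2) : Function.Surjective (ax (R := R) i) := by
  intro g
  let f : MvPowerSeries (Fin 2) R := fun m => PowerSeries.coeff (m i) g
  refine ⟨f, ?_⟩
  ext n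
  rw [coeff_ax]
  change PowerSeries.coeff ((Finsupp.single i n) i) g = _
  rw [Finsupp.single_eq_same]

/-- Decomposition of a power series into its restriction to an axis and the rest. -/
theorem mem_of_coeff_mem {i j : Fin 2} (h : j ≠ i) {I : Ideal R} (hI : I.FG)
    {f : MvPowerSeries (Fin 2) R} (hf : ∀ n, PowerSeries.coeff n (ax i f) ∈ I) :
    f ∈ I.map (C : R →+* MvPowerSeries (Fin 2) R) ⊔ Ideal.span {X j} := by
  classical
  let f₀ : MvPowerSeries (Fin 2) R := fun m => if m j = 0 then coeff m f else 0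
  have hf₀ : ∀ m, coeff m f₀ = if m j = 0 then coeff m f else 0 := fun m => rfl
  have hm : ∀ m : Fin 2 →₀ ℕ, m j = 0 → m = Finsupp.single i (m i) := by
    intro m hm
    ext k
    rcases (by omega : k = i ∨ k = j) with rfl | rfl
    · simp
    · rw [Finsupp.single_eq_of_ne h, hm]
  have h1 : f₀ ∈ I.map (C : R →+* MvPowerSeries (Fin 2) R) := by
    refine Groth.Agent.CalgB.PowSerHt.mv_mem_map_C_of_coeff_mem I hI _ fun m => ?_
    rw [hf₀]
    split_ifs with h2
    · rw [hm m h2, ← coeff_ax]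
      exact hf _
    · exact zero_mem _
  have h2 : (X j : MvPowerSeries (Fin 2) R) ∣ f - f₀ := by
    rw [MvPowerSeries.X_dvd_iff]
    intro m hm
    rw [map_sub, hf₀, if_pos hm, sub_self]
  have h3 : f = f₀ + (f - f₀) := by ring
  rw [h3]
  exact Submodule.add_mem_sup h1 (Ideal.mem_span_singleton.2 h2)

theorem X_dvd_of_ax_eq_zero {i j : Fin 2} (h : j ≠ i) {f : MvPowerSeries (Fin 2) R}
    (hf : ax i f = 0) : (X j : MvPowerSeries (Fin 2) R) ∣ f := by
  have := mem_of_coeff_mem (I := ⊥) h Submodule.fg_bot (f := f) (fun n => by rw [hf, map_zero]; simp)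
  rwa [Ideal.map_bot, bot_sup_eq, Ideal.mem_span_singleton] at this

theorem gen (f : MvPowerSeries (Fin 2) R) : ∃ (r : R) (g h : MvPowerSeries (Fin 2) R),
    f = C r + X 0 * g + X 1 * h := by
  obtain ⟨g, hg⟩ : ∃ g, ax 0 g = PowerSeries.mk fun n => PowerSeries.coeff (n + 1) (ax 0 f) :=
    ax_surjective 0 _
  have h1 : ax 0 (f - C (PowerSeries.coeff 0 (ax 0 f)) - X 0 * g) = 0 := by
    rw [map_sub, map_sub, map_mul, ax_C, ax_X_self, hg]
    have := PowerSeries.eq_X_mul_shift_add_const (ax 0 f)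
    rw [PowerSeries.coeff_zero_eq_constantCoeff_apply, sub_sub, sub_eq_zero, add_comm]
    exact this
  obtain ⟨h, hh⟩ := X_dvd_of_ax_eq_zero (j := 1) (by decide) h1
  exact ⟨_, g, h, by rw [← hh]; ring⟩

/-- The ring. -/
abbrev S (Δ : R) : Type u :=
  MvPowerSeries (Fin 2) R ⧸ Ideal.span {(X 0 * X 1 - C Δ : MvPowerSeries (Fin 2) R)}

theorem mk_uv (Δ : R) : (Ideal.Quotient.mk _ (X 0) : S Δ) * Ideal.Quotient.mk _ (X 1) =
    algebraMap R (S Δ) Δ := by
  rw [← map_mul, ← sub_eq_zero]
  have : algebraMap R (S Δ) Δ = Ideal.Quotient.mk _ (C Δ) := rfl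
  rw [this, ← map_sub, Ideal.Quotient.eq_zero_iff_mem]
  exact Ideal.mem_span_singleton_self _

/-- Axis homomorphisms out of the quotient. -/
noncomputable def axS (Δ : R) {k : Type v} [CommRing k] (ψ : R →+* k) (hψ : ψ Δ = 0) (i : Fin 2) :
    S Δ →+* PowerSeries k :=
  Ideal.Quotient.lift _ ((PowerSeries.map ψ).comp (ax i)) (by
    intro a ha
    obtain ⟨c, rfl⟩ := Ideal.mem_span_singleton'.1 ha
    have : ax i (X 0 * X 1 : MvPowerSeries (Fin 2) R) = 0 := by
      rw [map_mul]
      rcases (by omega : i = 0 ∨ i = 1) with rfl | rfl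
      · rw [ax_X_ne (i := 0) (j := 1) (by decide), mul_zero]
      · rw [ax_X_ne (i := 1) (j := 0) (by decide), zero_mul]
    rw [RingHom.comp_apply, map_mul, map_sub, this, ax_C, zero_sub, map_mul, map_neg,
      PowerSeries.map_C, hψ, map_zero, neg_zero, mul_zero])

section axS

variable {Δ : R} {k : Type v} [CommRing k] (ψ : R →+* k) (hψ : ψ Δ = 0) (i : Fin 2)

theorem axS_mk (f : MvPowerSeries (Fin 2) R) :
    axS Δ ψ hψ i (Ideal.Quotient.mk _ f) = PowerSeries.map ψ (ax i f) := rfl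

theorem axS_surjective (h : Function.Surjective ψ) : Function.Surjective (axS Δ ψ hψ i) := by
  intro g
  obtain ⟨g', hg'⟩ := PowerSeries.map_surjective ψ h g
  obtain ⟨f, rfl⟩ := ax_surjective i g'
  exact ⟨Ideal.Quotient.mk _ f, hg'⟩

theorem axS_X_self : axS Δ ψ hψ i (Ideal.Quotient.mk _ (X i)) = PowerSeries.X := by
  rw [axS_mk, ax_X_self, PowerSeries.map_X]

theorem axS_X_ne {j : Fin 2} (h : j ≠ i) : axS Δ ψ hψ i (Ideal.Quotient.mk _ (X j)) = 0 := by
  rw [axS_mk, ax_X_ne h, map_zero]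

theorem axS_algebraMap (r : R) : axS Δ ψ hψ i (algebraMap R (S Δ) r) = PowerSeries.C (ψ r) := by
  have : algebraMap R (S Δ) r = Ideal.Quotient.mk _ (C r) := rfl
  rw [this, axS_mk, ax_C, PowerSeries.map_C]

theorem ker_axS_le {j : Fin 2} (h : j ≠ i) (hfg : (RingHom.ker ψ).FG) :
    RingHom.ker (axS Δ ψ hψ i) ≤
      (RingHom.ker ψ).map (algebraMap R (S Δ)) ⊔ Ideal.span {Ideal.Quotient.mk _ (X j)} := by
  intro x hx
  obtain ⟨f, rfl⟩ := Ideal.Quotient.mk_surjective x
  rw [RingHom.mem_ker, axS_mk] at hx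
  have h1 := mem_of_coeff_mem h hfg (f := f) (fun n => by
    rw [RingHom.mem_ker, ← PowerSeries.coeff_map, hx, map_zero])
  have h2 := Ideal.mem_map_of_mem (Ideal.Quotient.mk
    (Ideal.span {(X 0 * X 1 - C Δ : MvPowerSeries (Fin 2) R)})) h1
  rw [Ideal.map_sup, Ideal.map_map, Ideal.map_span, Set.image_singleton] at h2
  exact h2

end axS

end K83.AnnRing
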