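import Groth.Agent.CalgB.H1OfRegular
import Mathlib.RingTheory.Ideal.Cotangent

/-!
# The conormal module of a weakly regular sequence is free

Abstract form: `T` is a module over `B = P / K`, `τ : K → T` is surjective with kernel `K²`.
-/

set_option autoImplicit false

namespace K83.ConormalFree

open RingTheory.Sequence

theorem mem_of_sum_eq_zero {P : Type*} [CommRing P] {r : ℕ} (F : Fin r → P)
    (h : IsWeaklyRegular P (List.ofFn F)) (a : Fin r → P) (ha : ∑ i, a i * F i = 0) (i : Fin r) :
    a i ∈ Ideal.span (Set.range F) := by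
  have h1 := Groth.Agent.CalgB.H1OfRegular.isH1Regular_of_isWeaklyRegular F h a ha
  clear ha
  induction h1 using Submodule.span_induction with
  | mem x hx =>
    obtain ⟨j, k, rfl⟩ := hx
    rw [Pi.sub_apply, Pi.single_apply, Pi.single_apply]
    refine sub_mem ?_ ?_
    · split_ifs
      · exact Ideal.subset_span ⟨_, rfl⟩
      · exact zero_mem _
    · split_ifs
      · exact Ideal.subset_span ⟨_, rfl⟩
      · exact zero_mem _
  | zero => exact zero_mem _
  | add x y _ _ hx hy => exact add_mem hx hy
  | smul a x _ hx => exact Ideal.mul_mem_left _ _ hx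

theorem nonempty_basis {P B T : Type*} [CommRing P] [CommRing B] [Algebra P B]
    [AddCommGroup T] [Module P T] [Module B T] [IsScalarTower P B T]
    (hB : Function.Surjective (algebraMap P B)) (K : Ideal P)
    (hK : ∀ x, algebraMap P B x = 0 ↔ x ∈ K) {r : ℕ} (F : Fin r → P)
    (hF : K = Ideal.span (Set.range F)) (h : IsWeaklyRegular P (List.ofFn F))
    (τ : K →ₗ[P] T) (hτ : Function.Surjective τ) (hτ0 : ∀ x, τ x = 0 ↔ (x : P) ∈ K ^ 2) :
    Nonempty (Module.Basis (Fin r) B T) := by
  have hmem (i : Fin r) : F i ∈ K := hF ▸ Ideal.subset_span ⟨i, rfl⟩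
  let Φ : (Fin r → B) →ₗ[B] T := Fintype.linearCombination B (fun i => τ ⟨F i, hmem i⟩)
  have hΦ (c : Fin r → P) : Φ (fun i => algebraMap P B (c i)) =
      τ ⟨∑ i, c i * F i, Ideal.sum_mem _ fun i _ => K.mul_mem_left _ (hmem i)⟩ := by
    have h1 : (⟨∑ i, c i * F i, Ideal.sum_mem _ fun i _ => K.mul_mem_left _ (hmem i)⟩ : K) =
        ∑ i, c i • (⟨F i, hmem i⟩ : K) := by
      ext
      simp
    rw [h1, map_sum, Fintype.linearCombination_apply]
    refine Finset.sum_congr rfl fun i _ => ?_
    rw [map_smul, algebraMap_smul]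
  have hinj : Function.Injective Φ := by
    rw [injective_iff_map_eq_zero]
    intro c hc
    choose c' hc' using fun i => hB (c i)
    obtain rfl : (fun i => algebraMap P B (c' i)) = c := funext hc'
    rw [hΦ, hτ0] at hc
    simp only at hc
    have h2 : ∑ i, c' i * F i ∈ K • Ideal.span (Set.range F) := by
      rw [← hF, smul_eq_mul, ← sq]
      exact hc
    have h2' : ∑ i, c' i * F i ∈ K • Submodule.span P (Set.range F) := h2
    rw [Submodule.mem_ideal_smul_span_iff_exists_sum] at h2'
    obtain ⟨d, hd, hd'⟩ := h2'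
    have h3 : ∑ i, (c' i - d i) * F i = 0 := by
      simp only [sub_mul, Finset.sum_sub_distrib]
      rw [← hd', Finsupp.sum_fintype _ _ (fun i => by simp)]
      simp
    funext i
    have h4 := mem_of_sum_eq_zero F h _ h3 i
    rw [← hF] at h4
    have h5 : c' i ∈ K := by
      have := add_mem h4 (hd i)
      rwa [sub_add_cancel] at this
    exact (hK _).2 h5
  have hsurj : Function.Surjective Φ := by
    intro y
    obtain ⟨⟨y, hy⟩, rfl⟩ := hτ y
    obtain ⟨c, hc⟩ : ∃ c : Fin r → P, ∑ i, c i * F i = y := by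
      have hy' := hy
      rw [hF, Ideal.mem_span_range_iff_exists_fun] at hy'
      exact hy'
    subst hc
    exact ⟨_, hΦ c⟩
  exact ⟨.ofEquivFun (LinearEquiv.ofBijective Φ ⟨hinj, hsurj⟩).symm⟩

end K83.ConormalFree
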