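import Groth.Agent.Sga67.ExtAlg
import Mathlib.LinearAlgebra.ExteriorPower.Basis

/-!
# The top exterior power in a split exact sequence with free terms

If `0 → M' → M → M'' → 0` is split exact, `M'` free of rank `r` and `M` free of rank `n ≥ r`, then
`⋀^(n-r) M'' ≃ R`.
-/

set_option autoImplicit false

universe u u₁ u₂ u₃

open scoped TensorProduct

namespace K83.DetExact

open Groth.Agent.Sga67.ExtAlg

variable {R : Type u} [CommRing R]

theorem nonempty_top {M : Type u₂} [AddCommGroup M] [Module R M] {n : ℕ}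
    (b : Module.Basis (Fin n) R M) : Nonempty (⋀[R]^n M ≃ₗ[R] R) := by
  have : Unique (Set.powersetCard (Fin n) n) :=
    { default := ⟨Finset.univ, by simp⟩
      uniq := by
        rintro ⟨s, hs⟩
        apply Subtype.ext
        have hs' : s.card = n := hs
        exact Finset.eq_univ_of_card s (by simpa using hs') }
  exact ⟨(b.exteriorPower n).equivFun.trans (LinearEquiv.funUnique _ R R)⟩

theorem subsingleton_ext {M : Type u₂} [AddCommGroup M] [Module R M] {n m : ℕ}
    (b : Module.Basis (Fin n) R M) (h : n < m) : Subsingleton (⋀[R]^m M) := by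
  have : IsEmpty (Set.powersetCard (Fin n) m) := by
    refine ⟨?_⟩
    rintro ⟨s, hs⟩
    have hs' : s.card = m := hs
    have := Finset.card_le_univ s
    simp at this
    omega
  exact (b.exteriorPower m).equivFun.toEquiv.subsingleton

theorem nonempty_of_rel {T A B : Type*} [AddCommMonoid T] [Module R T] [AddCommMonoid A]
    [Module R A] [AddCommMonoid B] [Module R B] (u : T →ₗ[R] A) (v : T →ₗ[R] B)
    (hu : Function.Surjective u) (hv : Function.Surjective v)
    (h : ∀ x y, u x = u y ↔ v x = v y) : Nonempty (A ≃ₗ[R] B) := by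
  choose σ hσ using hu
  have key : ∀ t, v (σ (u t)) = v t := fun t => (h _ _).1 (hσ _)
  let w : A →ₗ[R] B :=
    { toFun := fun a => v (σ a)
      map_add' := fun a b => by
        rw [← map_add]
        exact (h _ _).1 (by rw [map_add, hσ, hσ, hσ])
      map_smul' := fun c a => by
        rw [RingHom.id_apply, ← map_smul]
        exact (h _ _).1 (by rw [map_smul, hσ, hσ]) }
  refine ⟨LinearEquiv.ofBijective w ⟨fun a b hab => ?_, fun b => ?_⟩⟩
  · have := (h _ _).2 hab
    rwa [hσ, hσ] at this
  · obtain ⟨t, rfl⟩ := hv b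
    exact ⟨u t, key t⟩

variable {M' : Type u₁} {M : Type u₂} {M'' : Type u₃}
  [AddCommGroup M'] [Module R M'] [AddCommGroup M] [Module R M] [AddCommGroup M''] [Module R M'']

theorem subsingleton_quot (f : M' →ₗ[R] M) (g : M →ₗ[R] M'') (r : M →ₗ[R] M')
    (hr : r ∘ₗ f = LinearMap.id) (hgf : g ∘ₗ f = 0) (hg : Function.Surjective g)
    {a n q : ℕ} (b' : Module.Basis (Fin a) R M') (b : Module.Basis (Fin n) R M) (hq : n < a + q) :
    Subsingleton (⋀[R]^q M'') := by
  obtain ⟨e⟩ := nonempty_top b'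
  have := subsingleton_ext b hq
  have h1 : ∀ t : ⋀[R]^a M' ⊗[R] ⋀[R]^q M, pi M' a q g t = 0 := fun t =>
    pi_eq_zero_of_mu_eq_zero rfl f g r hr hgf t (Subsingleton.elim _ _)
  have h2 : Subsingleton (⋀[R]^a M' ⊗[R] ⋀[R]^q M'') := by
    refine ⟨fun x y => ?_⟩
    obtain ⟨x, rfl⟩ := pi_surjective g hg x
    obtain ⟨y, rfl⟩ := pi_surjective g hg y
    rw [h1, h1]
  exact ((TensorProduct.congr e (LinearEquiv.refl R _)).trans
    (TensorProduct.lid R (⋀[R]^q M''))).symm.toEquiv.subsingleton

theorem mu_surjective (f : M' →ₗ[R] M) (g : M →ₗ[R] M'') (r : M →ₗ[R] M') (s : M'' →ₗ[R] M)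
    (hr : r ∘ₗ f = LinearMap.id) (hgf : g ∘ₗ f = 0) (hg : Function.Surjective g)
    (hrs : ∀ m, m - s (g m) = f (r m)) {a n : ℕ} (b' : Module.Basis (Fin a) R M')
    (b : Module.Basis (Fin n) R M) (p : ℕ) : ∀ (q : ℕ) (_ : p ≤ a) (h : p + q = n),
    Function.Surjective (mu h f) := by
  induction p with
  | zero => exact fun q _ h => mu_zero_surjective h f
  | succ p ih =>
    intro q hp h x
    have h' : p + (q + 1) = n := by omega
    obtain ⟨t, rfl⟩ := ih (q + 1) (by omega) h' x
    have := subsingleton_quot f g r hr hgf hg b' b (q := q + 1) (by omega)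
    have hs : Subsingleton (⋀[R]^p M' ⊗[R] ⋀[R]^(q + 1) M'') := by
      refine ⟨fun x y => ?_⟩
      have : ∀ x : ⋀[R]^p M' ⊗[R] ⋀[R]^(q + 1) M'', x = 0 := by
        intro x
        induction x with
        | zero => rfl
        | add x y hx hy => rw [hx, hy, add_zero]
        | tmul x y => rw [Subsingleton.elim y 0, TensorProduct.tmul_zero]
      rw [this x, this y]
    exact exists_mu_eq_of_pi_eq_zero h' h f g r s hrs t (Subsingleton.elim _ _)

theorem nonempty_quot (f : M' →ₗ[R] M) (g : M →ₗ[R] M'') (r : M →ₗ[R] M') (s : M'' →ₗ[R] M)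
    (hr : r ∘ₗ f = LinearMap.id) (hgf : g ∘ₗ f = 0) (hg : Function.Surjective g)
    (hrs : ∀ m, m - s (g m) = f (r m)) {a n : ℕ} (b' : Module.Basis (Fin a) R M')
    (b : Module.Basis (Fin n) R M) (han : a ≤ n) : Nonempty (⋀[R]^(n - a) M'' ≃ₗ[R] R) := by
  have h : a + (n - a) = n := by omega
  have hsurj := mu_surjective f g r s hr hgf hg hrs b' b a (n - a) le_rfl h
  have hker : ∀ t, mu h f t = 0 ↔ pi M' a (n - a) g t = 0 := by
    intro t
    refine ⟨pi_eq_zero_of_mu_eq_zero h f g r hr hgf t, fun ht => ?_⟩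
    rcases Nat.eq_zero_or_pos (n - a) with h0 | h0
    · have : t = 0 := by
        revert t
        rw [h0]
        intro t ht
        exact pi_zero_injective g (by rw [ht, map_zero])
      rw [this, map_zero]
    · obtain ⟨k, hk⟩ : ∃ k, n - a = k + 1 := ⟨n - a - 1, by omega⟩
      clear hsurj
      revert t
      revert h
      rw [hk]
      intro h t ht
      have h' : a + 1 + k = n := by omega
      obtain ⟨t', ht'⟩ := exists_mu_eq_of_pi_eq_zero h h' f g r s hrs t ht
      have := subsingleton_ext b' (Nat.lt_succ_self a)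
      have hs : ∀ x : ⋀[R]^(a + 1) M' ⊗[R] ⋀[R]^k M, x = 0 := by
        intro x
        induction x with
        | zero => rfl
        | add x y hx hy => rw [hx, hy, add_zero]
        | tmul x y => rw [Subsingleton.elim x 0, TensorProduct.zero_tmul]
      rw [← ht', hs t', map_zero]
  obtain ⟨e1⟩ := nonempty_top b'
  obtain ⟨e2⟩ := nonempty_top b
  obtain ⟨E⟩ := nonempty_of_rel (mu h f) (pi M' a (n - a) g) hsurj (pi_surjective g hg)
    (fun x y => by rw [← sub_eq_zero, ← map_sub, hker, map_sub, sub_eq_zero])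
  exact ⟨(E.trans ((TensorProduct.congr e1 (LinearEquiv.refl R _)).trans
      (TensorProduct.lid R (⋀[R]^(n - a) M'')))).symm.trans e2⟩

end K83.DetExact
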