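import Groth.Agent.CAlg.K83.DetGen
import Mathlib.RingTheory.MvPolynomial.IrreducibleQuadratic
import Mathlib.RingTheory.MvPolynomial.Basic
import Mathlib.Algebra.MvPolynomial.Supported
import Mathlib.Algebra.MvPolynomial.Division
import Mathlib.RingTheory.Polynomial.UniqueFactorization
import Mathlib.Algebra.MvPolynomial.Nilpotent
import Mathlib.RingTheory.Localization.Away.Basic
import Mathlib.LinearAlgebra.Matrix.Permutation

/-! Irreducibility of the generic determinant over a domain. -/

set_option autoImplicit false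
universe u

namespace K83.DetGL

open MvPolynomial

variable {R : Type u} [CommRing R]

theorem det_mem {σ : Type*} {n : ℕ} (S : Subalgebra R (MvPolynomial σ R))
    (M : Matrix (Fin n) (Fin n) (MvPolynomial σ R)) (h : ∀ i j, M i j ∈ S) : M.det ∈ S := by
  rw [Matrix.det_apply]
  refine S.sum_mem fun τ _ => ?_
  have h1 : ∏ i, M (τ i) i ∈ S := S.prod_mem fun i _ => h _ _
  rcases Int.units_eq_one_or (Equiv.Perm.sign τ) with h2 | h2 <;> rw [h2]
  · simpa using h1
  · simpa using h1

theorem irreducible_det [IsDomain R] : ∀ (n : ℕ) (σ : Type) (e : Fin (n + 1) → Fin (n + 1) → σ)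
    (he : ∀ i j i' j', e i j = e i' j' → i = i' ∧ j = j'),
    Irreducible (Matrix.of fun i j => (X (e i j) : MvPolynomial σ R)).det := by
  intro n
  induction n with
  | zero =>
    intro σ e he
    rw [Matrix.det_fin_one, Matrix.of_apply]
    exact MvPolynomial.X_prime.irreducible
  | succ n ih =>
    intro σ e he
    classical
    set M : Matrix (Fin (n + 2)) (Fin (n + 2)) (MvPolynomial σ R) :=
      Matrix.of fun i j => (X (e i j) : MvPolynomial σ R) with hM
    set f : MvPolynomial σ R := (M.submatrix Fin.succ Fin.succ).det with hf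
    set g : MvPolynomial σ R := ∑ j : Fin (n + 1), (-1) ^ ((j.succ : Fin (n + 2)) : ℕ) * M 0 j.succ *
      (M.submatrix Fin.succ j.succ.succAbove).det with hg
    have hdet : M.det = f * X (e 0 0) + g := by
      rw [Matrix.det_succ_row_zero, Fin.sum_univ_succ]
      simp only [Fin.val_zero, pow_zero, one_mul]
      congr 1
      rw [mul_comm]
      rfl
    have hfirr : Irreducible f := ih σ (fun i j => e i.succ j.succ) (by
      intro i j i' j' h
      obtain ⟨h1, h2⟩ := he _ _ _ _ h
      exact ⟨Fin.succ_injective _ h1, Fin.succ_injective _ h2⟩)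
    let S : Subalgebra R (MvPolynomial σ R) := supported R {e 0 0}ᶜ
    have hX : ∀ i j, (i ≠ 0 ∨ j ≠ 0) → M i j ∈ S := by
      intro i j hij
      change X (e i j) ∈ supported R _
      apply Algebra.subset_adjoin
      refine ⟨e i j, ?_, rfl⟩
      intro h
      obtain ⟨h1, h2⟩ := he _ _ _ _ h
      rcases hij with h' | h'
      · exact h' h1
      · exact h' h2
    have hfS : f ∈ S := det_mem S _ fun i j => hX _ _ (Or.inl (Fin.succ_ne_zero i))
    have hgS : g ∈ S := by
      refine S.sum_mem fun j _ => S.mul_mem (S.mul_mem ?_ ?_) ?_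
      · exact S.pow_mem (S.neg_mem S.one_mem) _
      · exact hX _ _ (Or.inr (Fin.succ_ne_zero j))
      · exact det_mem S _ fun i j => hX _ _ (Or.inl (Fin.succ_ne_zero i))
    rw [hdet]
    refine MvPolynomial.irreducible_mul_X_add f g (e 0 0) hfirr.ne_zero ?_ ?_ ?_
    · intro h
      exact (mem_supported.1 hfS) h rfl
    · intro h
      exact (mem_supported.1 hgS) h rfl
    · rw [hfirr.isRelPrime_iff_not_dvd]
      intro hdvd
      let s : Equiv.Perm (Fin (n + 2)) := Equiv.swap 0 1
      let v : σ → R := fun t => if ∃ i, t = e i (s i) then 1 else 0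
      have hv : ∀ i j, v (e i j) = if j = s i then 1 else 0 := by
        intro i j
        by_cases hj : j = s i
        · rw [if_pos hj]
          exact if_pos ⟨i, by rw [hj]⟩
        · rw [if_neg hj]
          refine if_neg ?_
          rintro ⟨i', hi'⟩
          obtain ⟨h1, h2⟩ := he _ _ _ _ hi'
          exact hj (by rw [h2, h1])
      have hf0 : MvPolynomial.eval v f = 0 := by
        rw [hf, RingHom.map_det]
        refine Matrix.det_eq_zero_of_row_eq_zero 0 fun j => ?_
        change MvPolynomial.eval v (X (e (Fin.succ 0) j.succ)) = 0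
        rw [eval_X, hv]
        refine if_neg ?_
        change j.succ ≠ s 1
        rw [show s 1 = 0 from Equiv.swap_apply_right 0 1]
        exact Fin.succ_ne_zero j
      have hM1 : MvPolynomial.eval v M.det = MvPolynomial.eval v g := by
        rw [hdet, map_add, map_mul, hf0, zero_mul, zero_add]
      have hM2 : IsUnit (MvPolynomial.eval v M.det) := by
        rw [RingHom.map_det]
        have : (MvPolynomial.eval v).mapMatrix M = s.permMatrix R := by
          ext1 i j
          change MvPolynomial.eval v (X (e i j)) = _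
          rw [eval_X, hv]
          refine Eq.trans ?_ (PEquiv.toMatrix_apply (Equiv.toPEquiv s) i j).symm
          simp [Equiv.toPEquiv_apply, eq_comm]
        rw [this, Matrix.det_permutation]
        rcases Int.units_eq_one_or (Equiv.Perm.sign s) with h2 | h2 <;> rw [h2] <;> simp
      obtain ⟨w, hw⟩ := hdvd
      rw [hM1, hw, map_mul, hf0, zero_mul] at hM2
      exact not_isUnit_zero hM2

theorem eval_zero_det (n : ℕ) (hn : 0 < n) :
    MvPolynomial.eval (fun _ => (0 : R)) (Matrix.mvPolynomialX (Fin n) (Fin n) R).det = 0 := by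
  rw [RingHom.map_det]
  have : Nonempty (Fin n) := ⟨⟨0, hn⟩⟩
  have h0 : (MvPolynomial.eval (fun _ : Fin n × Fin n => (0 : R))).mapMatrix
      (Matrix.mvPolynomialX (Fin n) (Fin n) R) = 0 := by
    ext i j; simp [Matrix.mvPolynomialX]
  rw [h0, Matrix.det_zero]

theorem injective_away (n : ℕ) : Function.Injective (algebraMap (MvPolynomial (Fin n × Fin n) R)
    (Localization.Away (Matrix.mvPolynomialX (Fin n) (Fin n) R).det)) := by
  apply IsLocalization.injective _ (M := Submonoid.powers (Matrix.mvPolynomialX (Fin n) (Fin n) R).det)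
  exact Submonoid.powers_le.2 (K83.DetGen.det_mem_nonZeroDivisors R n)

theorem key [Nontrivial R] (n : ℕ) (hn : 0 < n) (a b : Rˣ) (k : ℕ)
    (h : algebraMap R (Localization.Away (Matrix.mvPolynomialX (Fin n) (Fin n) R).det) a =
      algebraMap R (Localization.Away (Matrix.mvPolynomialX (Fin n) (Fin n) R).det) b *
        algebraMap _ (Localization.Away (Matrix.mvPolynomialX (Fin n) (Fin n) R).det)
          (Matrix.mvPolynomialX (Fin n) (Fin n) R).det ^ k) : k = 0 ∧ a = b := by
  have h1 : (C (a : R) : MvPolynomial (Fin n × Fin n) R) =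
      C (b : R) * (Matrix.mvPolynomialX (Fin n) (Fin n) R).det ^ k := by
    apply injective_away n
    rw [map_mul, map_pow]
    exact h
  have hk : k = 0 := by
    by_contra hk
    have h2 := congrArg (MvPolynomial.eval (fun _ => (0 : R))) h1
    rw [map_mul, map_pow, eval_zero_det n hn, zero_pow hk, mul_zero, eval_C] at h2
    exact a.ne_zero h2
  refine ⟨hk, ?_⟩
  rw [hk, pow_zero, mul_one] at h1
  exact Units.ext (MvPolynomial.C_injective _ _ h1)

theorem injective_unitsMul [Nontrivial R] (n : ℕ) (hn : 0 < n) :
    Function.Injective (fun p : Rˣ × ℤ =>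
        Units.map (algebraMap R (Localization.Away (Matrix.mvPolynomialX (Fin n) (Fin n) R).det)).toMonoidHom p.1 *
          (IsLocalization.Away.algebraMap_isUnit (S := Localization.Away (Matrix.mvPolynomialX (Fin n) (Fin n) R).det)
            (Matrix.mvPolynomialX (Fin n) (Fin n) R).det).unit ^ p.2) := by
  set L := Localization.Away (Matrix.mvPolynomialX (Fin n) (Fin n) R).det with hL
  set d : Lˣ := (IsLocalization.Away.algebraMap_isUnit (S := L)
            (Matrix.mvPolynomialX (Fin n) (Fin n) R).det).unit with hd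
  have main : ∀ (a b : Rˣ) (e e' : ℤ), e ≤ e' →
      Units.map (algebraMap R L).toMonoidHom a * d ^ e = Units.map (algebraMap R L).toMonoidHom b * d ^ e' →
      a = b ∧ e = e' := by
    intro a b e e' hee h
    obtain ⟨k, hk⟩ := Int.eq_ofNat_of_zero_le (sub_nonneg.2 hee)
    have h1 : Units.map (algebraMap R L).toMonoidHom a =
        Units.map (algebraMap R L).toMonoidHom b * d ^ k := by
      have h2 : e' = (k : ℤ) + e := by omega
      rw [h2, zpow_add, zpow_natCast, ← mul_assoc] at h
      exact mul_right_cancel h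
    have h2 : (algebraMap R L) a = (algebraMap R L) b * (d : L) ^ k := by
      simpa using congrArg (fun u : Lˣ => (u : L)) h1
    obtain ⟨h3, h4⟩ := key n hn a b k h2
    refine ⟨h4, ?_⟩
    rw [h3] at hk
    simp at hk
    omega
  rintro ⟨a, e⟩ ⟨b, e'⟩ h
  simp only at h
  rcases le_total e e' with hee | hee
  · obtain ⟨h1, h2⟩ := main a b e e' hee h
    rw [h1, h2]
  · obtain ⟨h1, h2⟩ := main b a e' e hee h.symm
    rw [h1, h2]

theorem irreducible_det_mvPolynomialX [IsDomain R] (n : ℕ) (hn : 0 < n) :
    Irreducible (Matrix.mvPolynomialX (Fin n) (Fin n) R).det := by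
  obtain ⟨n, rfl⟩ := Nat.exists_eq_succ_of_ne_zero hn.ne'
  exact irreducible_det n (Fin (n + 1) × Fin (n + 1)) (fun i j => (i, j)) (fun i j i' j' h => by
    simpa using h)

end K83.DetGL
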