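import Groth.Agent.CAlg.K83.DetGL
import Mathlib.RingTheory.Nilpotent.Lemmas
import Mathlib.RingTheory.Ideal.Quotient.Operations
import Mathlib.RingTheory.Localization.FractionRing

/-! Units of the coordinate ring of `GL_n`. -/

set_option autoImplicit false
universe u

namespace K83.DetGLUnits

open MvPolynomial K83.DetGL

variable {A : Type u} [CommRing A]

/-- Divisors of `t^m` in `A[t]`, `A` reduced and connected. -/
theorem dvd_X_pow [IsReduced A] [Nontrivial A]
    (hconn : ∀ e : A, IsIdempotentElem e → e = 0 ∨ e = 1) (G H : Polynomial A) (m : ℕ)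
    (h : G * H = Polynomial.X ^ m) :
    ∃ (k : ℕ) (u : Aˣ), G = Polynomial.C (u : A) * Polynomial.X ^ k := by
  classical
  have hprime : ∀ (p : Ideal A) [p.IsPrime] (i j : ℕ), i ≠ j → G.coeff i * G.coeff j ∈ p := by
    intro p hp i j hij
    let K := FractionRing (A ⧸ p)
    let φ : A →+* K := (algebraMap (A ⧸ p) K).comp (Ideal.Quotient.mk p)
    have h1 : G.map φ ∣ Polynomial.X ^ m := ⟨H.map φ, by rw [← Polynomial.map_mul, h]; simp⟩
    obtain ⟨l, hl, hassoc⟩ := (dvd_prime_pow Polynomial.prime_X m).1 h1
    obtain ⟨w, hw⟩ := hassoc.symm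
    obtain ⟨c, hc, hcw⟩ := Polynomial.isUnit_iff.1 w.isUnit
    have h2 : ∀ i, i ≠ l → G.coeff i ∈ p := by
      intro i hi
      have h3 : φ (G.coeff i) = 0 := by
        rw [← Polynomial.coeff_map, ← hw, ← hcw, Polynomial.coeff_mul_C, Polynomial.coeff_X_pow,
          if_neg hi, zero_mul]
      have h4 : Ideal.Quotient.mk p (G.coeff i) = 0 :=
        (IsFractionRing.injective (A ⧸ p) K) (by rw [map_zero]; exact h3)
      exact Ideal.Quotient.eq_zero_iff_mem.1 h4
    by_cases hi : i = l
    · exact p.mul_mem_left _ (h2 j (fun hj => hij (hi.trans hj.symm)))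
    · exact p.mul_mem_right _ (h2 i hi)
  have horth : ∀ i j : ℕ, i ≠ j → G.coeff i * G.coeff j = 0 := by
    intro i j hij
    have : G.coeff i * G.coeff j ∈ nilradical A := by
      rw [nilradical_eq_sInf, Ideal.mem_sInf]
      intro p hp
      have : p.IsPrime := hp
      exact hprime p i j hij
    rwa [nilradical_eq_zero, Ideal.zero_eq_bot, Ideal.mem_bot] at this
  set s := G.eval 1 with hs
  set t := H.eval 1 with ht
  have hst : s * t = 1 := by
    rw [hs, ht, ← Polynomial.eval_mul, h]; simp
  have hmul : ∀ i, G.coeff i * s = G.coeff i * G.coeff i := by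
    intro i
    rw [hs, Polynomial.eval_eq_sum_range, Finset.mul_sum]
    simp only [one_pow, mul_one]
    by_cases hi : i ∈ Finset.range (G.natDegree + 1)
    · rw [Finset.sum_eq_single_of_mem i hi]
      intro j _ hj
      exact horth i j (Ne.symm hj)
    · have : G.coeff i = 0 := by
        apply Polynomial.coeff_eq_zero_of_natDegree_lt
        simp at hi; omega
      simp [this]
  have hidem : ∀ i, IsIdempotentElem (G.coeff i * t) := by
    intro i
    change G.coeff i * t * (G.coeff i * t) = G.coeff i * t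
    calc G.coeff i * t * (G.coeff i * t) = (G.coeff i * G.coeff i) * t * t := by ring
      _ = G.coeff i * (s * t) * t := by rw [← hmul]; ring
      _ = G.coeff i * t := by rw [hst, mul_one]
  obtain ⟨k, hk⟩ : ∃ k, G.coeff k * t = 1 := by
    by_contra hcon
    push Not at hcon
    have h0 : ∀ i, G.coeff i * t = 0 := fun i => (hconn _ (hidem i)).resolve_right (hcon i)
    have : s * t = 0 := by
      rw [hs, Polynomial.eval_eq_sum_range, Finset.sum_mul]
      refine Finset.sum_eq_zero fun i _ => ?_
      rw [one_pow, mul_one, h0]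
    rw [hst] at this
    exact one_ne_zero this
  refine ⟨k, ⟨G.coeff k, t, hk, by rw [mul_comm]; exact hk⟩, ?_⟩
  ext i
  rw [Polynomial.coeff_C_mul_X_pow]
  split_ifs with hi
  · rw [hi]
  · calc G.coeff i = (G.coeff i * G.coeff k) * t := by rw [mul_assoc, hk, mul_one]
      _ = 0 := by rw [horth i k hi, zero_mul]

/-- specialization to scalar matrices -/
noncomputable def scal (A : Type*) [CommRing A] (n : ℕ) :
    MvPolynomial (Fin n × Fin n) A →ₐ[A] Polynomial A :=
  MvPolynomial.aeval (fun ij : Fin n × Fin n => if ij.1 = ij.2 then Polynomial.X else 0)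

theorem scal_det (A : Type*) [CommRing A] (n : ℕ) :
    scal A n (Matrix.mvPolynomialX (Fin n) (Fin n) A).det = Polynomial.X ^ n := by
  rw [AlgHom.map_det]
  have : (scal A n).mapMatrix (Matrix.mvPolynomialX (Fin n) (Fin n) A) =
      Matrix.scalar (Fin n) (Polynomial.X : Polynomial A) := by
    ext1 i j
    simp [scal, Matrix.mvPolynomialX, Matrix.diagonal_apply]
  rw [this]
  simp

theorem map_scal {A B : Type*} [CommRing A] [CommRing B] (φ : A →+* B) (n : ℕ)
    (g : MvPolynomial (Fin n × Fin n) A) :
    (scal A n g).map φ = scal B n (MvPolynomial.map φ g) := by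
  have : ((Polynomial.mapRingHom φ).comp (scal A n).toRingHom) =
      (scal B n).toRingHom.comp (MvPolynomial.map φ) := by
    ext ij
    · simp [scal]
    · simp [scal]
      split_ifs
      · simp only [Polynomial.coeff_X]
        split_ifs <;> simp
      · simp
  exact congrArg (fun g' => g' g) (congrArg DFunLike.coe this)

/-- Divisors of `det^m` in `A[X]`, `A` reduced and connected. -/
theorem dvd_det_pow [IsReduced A] [Nontrivial A]
    (hconn : ∀ e : A, IsIdempotentElem e → e = 0 ∨ e = 1) (n : ℕ) (hn : 0 < n)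
    (g h : MvPolynomial (Fin n × Fin n) A) (m : ℕ)
    (hgh : g * h = (Matrix.mvPolynomialX (Fin n) (Fin n) A).det ^ m) :
    ∃ (k : ℕ) (u : Aˣ), g = C (u : A) * (Matrix.mvPolynomialX (Fin n) (Fin n) A).det ^ k := by
  obtain ⟨k, u, hku⟩ := dvd_X_pow hconn (scal A n g) (scal A n h) (n * m) (by
    rw [← map_mul, hgh, map_pow, scal_det, ← pow_mul])
  have main : ∀ (p : Ideal A) [p.IsPrime] (i : _),
      (g - C (u : A) * (Matrix.mvPolynomialX (Fin n) (Fin n) A).det ^ (k / n)).coeff i ∈ p := by
    intro p hp i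
    let K := FractionRing (A ⧸ p)
    let φ : A →+* K := (algebraMap (A ⧸ p) K).comp (Ideal.Quotient.mk p)
    have hφ : ∀ a, φ a = 0 → a ∈ p := by
      intro a ha
      have h4 : Ideal.Quotient.mk p a = 0 :=
        (IsFractionRing.injective (A ⧸ p) K) (by rw [map_zero]; exact ha)
      exact Ideal.Quotient.eq_zero_iff_mem.1 h4
    have hprime : Prime (Matrix.mvPolynomialX (Fin n) (Fin n) K).det :=
      (irreducible_det_mvPolynomialX n hn).prime
    have h1 : MvPolynomial.map φ g ∣ (Matrix.mvPolynomialX (Fin n) (Fin n) K).det ^ m :=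
      ⟨MvPolynomial.map φ h, by rw [← map_mul, hgh, map_pow, K83.DetGen.map_det]⟩
    obtain ⟨l, hl, hassoc⟩ := (dvd_prime_pow hprime m).1 h1
    obtain ⟨w, hw⟩ := hassoc.symm
    obtain ⟨c, hc, hcw⟩ := MvPolynomial.isUnit_iff_eq_C_of_isReduced.1 w.isUnit
    have h2 : Polynomial.C (φ u) * Polynomial.X ^ k = Polynomial.C c * Polynomial.X ^ (n * l) := by
      have := map_scal φ n g
      rw [hku, ← hw, map_mul, map_pow, scal_det, hcw] at this
      simp only [Polynomial.map_mul, Polynomial.map_C, Polynomial.map_pow, Polynomial.map_X,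
        ← pow_mul] at this
      rw [this, mul_comm]
      congr 1
      simp [scal]
    have hu : φ (u : A) ≠ 0 := (u.isUnit.map φ).ne_zero
    have hkl : k = n * l := by
      have h3 := congrArg (fun q => Polynomial.coeff q k) h2
      simp only [Polynomial.coeff_C_mul_X_pow, if_true] at h3
      by_contra hne
      rw [if_neg hne] at h3
      exact hu h3
    have hcu : φ (u : A) = c := by
      have h3 := congrArg (fun q => Polynomial.coeff q k) h2
      simpa only [Polynomial.coeff_C_mul_X_pow, if_true, hkl] using h3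
    apply hφ
    rw [← MvPolynomial.coeff_map, map_sub, map_mul, map_pow, K83.DetGen.map_det, MvPolynomial.map_C,
      ← hw, hcw, hcu, hkl, Nat.mul_div_cancel_left l hn, mul_comm, sub_self, MvPolynomial.coeff_zero]
  refine ⟨k / n, u, ?_⟩
  rw [← sub_eq_zero]
  ext i
  rw [MvPolynomial.coeff_zero]
  have : (g - C (u : A) * (Matrix.mvPolynomialX (Fin n) (Fin n) A).det ^ (k / n)).coeff i ∈ nilradical A := by
    rw [nilradical_eq_sInf, Ideal.mem_sInf]
    intro p hp
    have : p.IsPrime := hp
    exact main p i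
  rwa [nilradical_eq_zero, Ideal.zero_eq_bot, Ideal.mem_bot] at this

theorem isReduced_of_surjective [Nontrivial A] (n : ℕ) (hn : 0 < n)
    (hs : Function.Surjective (fun p : Aˣ × ℤ =>
        Units.map (algebraMap A (Localization.Away (Matrix.mvPolynomialX (Fin n) (Fin n) A).det)).toMonoidHom p.1 *
          (IsLocalization.Away.algebraMap_isUnit (S := Localization.Away (Matrix.mvPolynomialX (Fin n) (Fin n) A).det)
            (Matrix.mvPolynomialX (Fin n) (Fin n) A).det).unit ^ p.2)) : IsReduced A := by
  refine ⟨fun ε hε => ?_⟩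
  set L := Localization.Away (Matrix.mvPolynomialX (Fin n) (Fin n) A).det with hL
  set d : Lˣ := (IsLocalization.Away.algebraMap_isUnit (S := L)
            (Matrix.mvPolynomialX (Fin n) (Fin n) A).det).unit with hd
  have hdL : (d : L) = algebraMap (MvPolynomial (Fin n × Fin n) A) L
      (Matrix.mvPolynomialX (Fin n) (Fin n) A).det := rfl
  let i0 : Fin n := ⟨0, hn⟩
  let w : MvPolynomial (Fin n × Fin n) A := 1 + C ε * X (i0, i0)
  have hw : IsUnit w := by
    refine IsNilpotent.isUnit_one_add ?_
    exact Commute.isNilpotent_mul_right (mul_comm _ _) (hε.map C)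
  let W : Lˣ := (hw.map (algebraMap (MvPolynomial (Fin n × Fin n) A) L)).unit
  have hWL : (W : L) = algebraMap (MvPolynomial (Fin n × Fin n) A) L w := rfl
  have hw0 : MvPolynomial.eval (fun _ => (0 : A)) w = 1 := by simp [w]
  obtain ⟨⟨a, e⟩, hae⟩ := hs W
  simp only at hae
  rcases le_total 0 e with he | he
  · obtain ⟨k, rfl⟩ := Int.eq_ofNat_of_zero_le he
    rw [zpow_natCast] at hae
    have h1 : (algebraMap (MvPolynomial (Fin n × Fin n) A) L) (C (a : A) *
        (Matrix.mvPolynomialX (Fin n) (Fin n) A).det ^ k) =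
        algebraMap (MvPolynomial (Fin n × Fin n) A) L w := by
      rw [map_mul, map_pow, ← hdL, ← hWL, ← hae]
      rfl
    have h2 := injective_away n h1
    have hk : k = 0 := by
      by_contra hk
      have h3 := congrArg (MvPolynomial.eval (fun _ => (0 : A))) h2
      rw [map_mul, map_pow, eval_zero_det n hn, zero_pow hk, mul_zero, hw0] at h3
      exact zero_ne_one h3
    rw [hk, pow_zero, mul_one] at h2
    have h4 := congrArg (MvPolynomial.coeff (Finsupp.single (i0, i0) 1)) h2
    simp only [w, coeff_add, coeff_C_mul, coeff_X] at h4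
    rw [coeff_C, if_neg, ← C_1, coeff_C, if_neg, zero_add] at h4
    · simpa using h4.symm
    · intro h5
      simpa using congrArg (fun z => z (i0, i0)) h5
    · intro h5
      simpa using congrArg (fun z => z (i0, i0)) h5
  · obtain ⟨k, hk⟩ := Int.eq_ofNat_of_zero_le (neg_nonneg.2 he)
    have hk' : e = -(k : ℤ) := by omega
    rw [hk', zpow_neg, zpow_natCast, mul_inv_eq_iff_eq_mul] at hae
    have h1 : (algebraMap (MvPolynomial (Fin n × Fin n) A) L) (C (a : A)) =
        algebraMap (MvPolynomial (Fin n × Fin n) A) L (w *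
        (Matrix.mvPolynomialX (Fin n) (Fin n) A).det ^ k) := by
      rw [map_mul, map_pow, ← hdL, ← hWL]
      exact congrArg (fun u : Lˣ => (u : L)) hae
    have h2 := injective_away n h1
    have hk0 : k = 0 := by
      by_contra hk
      have h3 := congrArg (MvPolynomial.eval (fun _ => (0 : A))) h2
      rw [map_mul, map_pow, eval_zero_det n hn, zero_pow hk, mul_zero, eval_C] at h3
      exact a.ne_zero h3
    rw [hk0, pow_zero, mul_one] at h2
    have h4 := congrArg (MvPolynomial.coeff (Finsupp.single (i0, i0) 1)) h2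
    simp only [w, coeff_add, coeff_C_mul, coeff_X] at h4
    rw [coeff_C, if_neg, ← C_1, coeff_C, if_neg, zero_add] at h4
    · simpa using h4.symm
    · intro h5
      simpa using congrArg (fun z => z (i0, i0)) h5
    · intro h5
      simpa using congrArg (fun z => z (i0, i0)) h5

theorem surjective_of_isReduced [Nontrivial A] [IsReduced A]
    (hconn : ∀ e : A, IsIdempotentElem e → e = 0 ∨ e = 1) (n : ℕ) (hn : 0 < n) :
    Function.Surjective (fun p : Aˣ × ℤ =>
        Units.map (algebraMap A (Localization.Away (Matrix.mvPolynomialX (Fin n) (Fin n) A).det)).toMonoidHom p.1 *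
          (IsLocalization.Away.algebraMap_isUnit (S := Localization.Away (Matrix.mvPolynomialX (Fin n) (Fin n) A).det)
            (Matrix.mvPolynomialX (Fin n) (Fin n) A).det).unit ^ p.2) := by
  set D := (Matrix.mvPolynomialX (Fin n) (Fin n) A).det with hD
  set L := Localization.Away D with hL
  set d : Lˣ := (IsLocalization.Away.algebraMap_isUnit (S := L) D).unit with hd
  have hdL : (d : L) = algebraMap (MvPolynomial (Fin n × Fin n) A) L D := rfl
  intro f
  obtain ⟨N, g, hg⟩ := IsLocalization.Away.surj D (f : L)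
  obtain ⟨M, h, hh⟩ := IsLocalization.Away.surj D ((f⁻¹ : Lˣ) : L)
  have hgh : g * h = D ^ (N + M) := by
    apply injective_away n
    rw [map_mul, ← hg, ← hh, map_pow, pow_add]
    calc (f : L) * (algebraMap _ L D) ^ N * (((f⁻¹ : Lˣ) : L) * (algebraMap _ L D) ^ M) =
        ((f : L) * ((f⁻¹ : Lˣ) : L)) * ((algebraMap _ L D) ^ N * (algebraMap _ L D) ^ M) := by ring
      _ = _ := by rw [Units.mul_inv, one_mul]
  obtain ⟨k, u, hku⟩ := dvd_det_pow hconn n hn g h (N + M) hgh
  refine ⟨(u, (k : ℤ) - N), ?_⟩
  simp only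
  rw [zpow_sub, zpow_natCast, zpow_natCast, ← mul_assoc, mul_inv_eq_iff_eq_mul]
  apply Units.ext
  have h1 : (f : L) * (d : L) ^ N =
      algebraMap (MvPolynomial (Fin n × Fin n) A) L (C (u : A)) * (d : L) ^ k := by
    rw [hdL, hg, hku, map_mul, map_pow]
  rw [Units.val_mul, Units.val_mul, Units.val_pow_eq_pow_val, Units.val_pow_eq_pow_val, h1]
  rfl

end K83.DetGLUnits
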