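import Mathlib.LinearAlgebra.Matrix.MvPolynomial
import Mathlib.LinearAlgebra.Matrix.Charpoly.Coeff
import Mathlib.RingTheory.Flat.TorsionFree
import Mathlib.RingTheory.Flat.Stability
import Mathlib.RingTheory.Flat.FaithfullyFlat.Basic
import Mathlib.RingTheory.TensorProduct.MvPolynomial
import Mathlib.RingTheory.TensorProduct.Quotient
import Mathlib.RingTheory.IsTensorProduct

/-! The generic determinant is a nonzerodivisor over every ring, and the quotient of the polynomial ring
by it is flat over the base. -/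

set_option autoImplicit false
universe u

namespace K83.DetGen

open MvPolynomial

noncomputable def shift (A : Type u) [CommRing A] (n : ℕ) :
    MvPolynomial (Fin n × Fin n) A →ₐ[A] Polynomial (MvPolynomial (Fin n × Fin n) A) :=
  MvPolynomial.aeval (fun ij : Fin n × Fin n =>
    Polynomial.C (MvPolynomial.X ij) + (if ij.1 = ij.2 then Polynomial.X else 0))

theorem shift_det (A : Type u) [CommRing A] (n : ℕ) :
    shift A n (Matrix.mvPolynomialX (Fin n) (Fin n) A).det =
      (-(Matrix.mvPolynomialX (Fin n) (Fin n) A)).charpoly := by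
  rw [AlgHom.map_det, Matrix.charpoly]
  congr 1
  ext1 i j
  by_cases h : i = j
  · subst h
    simp [shift, Matrix.charmatrix, Matrix.mvPolynomialX, add_comm]
  · simp [shift, Matrix.charmatrix, Matrix.mvPolynomialX, h]

theorem eval_shift (A : Type u) [CommRing A] (n : ℕ) (f : MvPolynomial (Fin n × Fin n) A) :
    Polynomial.eval 0 (shift A n f) = f := by
  have : ((Polynomial.evalRingHom (0 : MvPolynomial (Fin n × Fin n) A)).comp
      (shift A n : MvPolynomial (Fin n × Fin n) A →+* _)) = RingHom.id _ := by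
    ext ij
    · simp [shift]
    · simp [shift]
      split_ifs <;> simp
  exact congrArg (fun g => g f) (congrArg DFunLike.coe this)

theorem det_mem_nonZeroDivisors (A : Type u) [CommRing A] (n : ℕ) :
    (Matrix.mvPolynomialX (Fin n) (Fin n) A).det ∈ nonZeroDivisors (MvPolynomial (Fin n × Fin n) A) := by
  rw [mem_nonZeroDivisors_iff_right]
  intro g hg
  have h1 : shift A n g * (-(Matrix.mvPolynomialX (Fin n) (Fin n) A)).charpoly = 0 := by
    rw [← shift_det, ← map_mul, hg, map_zero]
  have h2 : shift A n g = 0 :=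
    (mem_nonZeroDivisors_iff_right.1
      (Matrix.charpoly_monic (-(Matrix.mvPolynomialX (Fin n) (Fin n) A))).mem_nonZeroDivisors) _ h1
  rw [← eval_shift A n g, h2, Polynomial.eval_zero]

theorem map_det (A B : Type*) [CommRing A] [CommRing B] (φ : A →+* B) (n : ℕ) :
    MvPolynomial.map φ (Matrix.mvPolynomialX (Fin n) (Fin n) A).det =
      (Matrix.mvPolynomialX (Fin n) (Fin n) B).det := by
  rw [RingHom.map_det]
  congr 1
  ext1 i j
  simp [Matrix.mvPolynomialX]

/-- `ℤ[X]/(det)` is flat over `ℤ`. -/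
theorem flat_int (n : ℕ) :
    Module.Flat ℤ (MvPolynomial (Fin n × Fin n) ℤ ⧸
      Ideal.span {(Matrix.mvPolynomialX (Fin n) (Fin n) ℤ).det}) := by
  rw [Module.Flat.flat_iff_torsion_eq_bot_of_isBezout, Submodule.eq_bot_iff]
  intro x hx
  obtain ⟨g, rfl⟩ := Ideal.Quotient.mk_surjective x
  rw [Submodule.mem_torsion_iff] at hx
  obtain ⟨⟨a, ha⟩, hax⟩ := hx
  have ha0 : a ≠ 0 := nonZeroDivisors.ne_zero ha
  have h1 : (C a * g : MvPolynomial (Fin n × Fin n) ℤ) ∈
      Ideal.span {(Matrix.mvPolynomialX (Fin n) (Fin n) ℤ).det} := by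
    rw [← Ideal.Quotient.eq_zero_iff_mem, ← MvPolynomial.smul_eq_C_mul]
    exact hax
  obtain ⟨h, hh⟩ := Ideal.mem_span_singleton'.1 h1
  let I : Ideal ℤ := Ideal.span {a}
  have h2 : MvPolynomial.map (Ideal.Quotient.mk I) h = 0 := by
    have h3 : MvPolynomial.map (Ideal.Quotient.mk I) h *
        (Matrix.mvPolynomialX (Fin n) (Fin n) (ℤ ⧸ I)).det = 0 := by
      rw [← map_det ℤ (ℤ ⧸ I) (Ideal.Quotient.mk I), ← map_mul, hh, map_mul, MvPolynomial.map_C,
        Ideal.Quotient.eq_zero_iff_mem.2 (Ideal.mem_span_singleton_self a), C_0, zero_mul]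
    exact (mem_nonZeroDivisors_iff_right.1 (det_mem_nonZeroDivisors (ℤ ⧸ I) n)) _ h3
  obtain ⟨h', rfl⟩ : ∃ h', h = C a * h' := by
    have h4 : (C a : MvPolynomial (Fin n × Fin n) ℤ) ∣ h := by
      rw [MvPolynomial.C_dvd_iff_dvd_coeff]
      intro i
      have := congrArg (MvPolynomial.coeff i) h2
      rw [MvPolynomial.coeff_map, MvPolynomial.coeff_zero, Ideal.Quotient.eq_zero_iff_mem] at this
      exact Ideal.mem_span_singleton.1 this
    exact h4
  rw [Ideal.Quotient.eq_zero_iff_mem]
  have h5 : g = h' * (Matrix.mvPolynomialX (Fin n) (Fin n) ℤ).det := by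
    have hC : (C a : MvPolynomial (Fin n × Fin n) ℤ) ≠ 0 := by
      rwa [Ne, MvPolynomial.C_eq_zero]
    apply mul_left_cancel₀ hC
    rw [← hh]; ring
  rw [h5]
  exact Ideal.mul_mem_left _ _ (Ideal.mem_span_singleton_self _)

attribute [local instance] MvPolynomial.algebraMvPolynomial in
/-- `A[X]/(det)` is flat over `A`. -/
theorem flat (A : Type u) [CommRing A] (n : ℕ) :
    Module.Flat A (MvPolynomial (Fin n × Fin n) A ⧸
      Ideal.span {(Matrix.mvPolynomialX (Fin n) (Fin n) A).det}) := by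
  have := flat_int n
  let I : Ideal (MvPolynomial (Fin n × Fin n) ℤ) :=
    Ideal.span {(Matrix.mvPolynomialX (Fin n) (Fin n) ℤ).det}
  let e1 := Algebra.TensorProduct.quotIdealMapEquivTensorQuot (MvPolynomial (Fin n × Fin n) A) I
  let e2 := Algebra.IsPushout.cancelBaseChange ℤ A (MvPolynomial (Fin n × Fin n) ℤ)
    (MvPolynomial (Fin n × Fin n) A) (MvPolynomial (Fin n × Fin n) ℤ ⧸ I)
  have hI : I.map (algebraMap (MvPolynomial (Fin n × Fin n) ℤ) (MvPolynomial (Fin n × Fin n) A)) =
      Ideal.span {(Matrix.mvPolynomialX (Fin n) (Fin n) A).det} := by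
    rw [Ideal.map_span, Set.image_singleton]
    congr 2
    exact map_det ℤ A (algebraMap ℤ A) n
  rw [← hI]
  exact Module.Flat.of_linearEquiv ((e1.toLinearEquiv.restrictScalars A).trans e2)

end K83.DetGen
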