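import Mathlib.RingTheory.LocalRing.Module
import Mathlib.RingTheory.Finiteness.ModuleFinitePresentation
import Mathlib.RingTheory.Finiteness.Nakayama
import Mathlib.RingTheory.FinitePresentation
import Mathlib.RingTheory.FiniteStability
import Mathlib.RingTheory.Support
import Mathlib.RingTheory.LocalRing.ResidueField.Ideal
import Mathlib.LinearAlgebra.FiniteDimensional.Lemmas
import Mathlib.LinearAlgebra.TensorProduct.RightExactness
import Mathlib.RingTheory.TensorProduct.Finite
import Mathlib.RingTheory.Localization.Algebra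

/-! An algebra map from a finite type algebra onto a finite flat algebra which is injective on all fibres
is bijective. -/

set_option autoImplicit false
universe u

namespace K83.FibreIso

open IsLocalRing TensorProduct

theorem ker_fg {R A B : Type*} [CommRing R] [CommRing A] [CommRing B] [Algebra R A] [Algebra R B]
    [Algebra.FinitePresentation R A] [Algebra.FiniteType R B] (f : B →ₐ[R] A)
    (hf : Function.Surjective f) : (RingHom.ker f.toRingHom).FG := by
  obtain ⟨n, g, hg⟩ := Algebra.FiniteType.iff_quotient_mvPolynomial''.1 (inferInstance : Algebra.FiniteType R B)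
  have h1 := Algebra.FinitePresentation.ker_fg_of_mvPolynomial (f.comp g) (hf.comp hg)
  have h2 : RingHom.ker f.toRingHom = (RingHom.ker (f.comp g).toRingHom).map g.toRingHom := by
    have h3 : RingHom.ker (f.comp g).toRingHom = (RingHom.ker f.toRingHom).comap g.toRingHom := rfl
    rw [h3]
    exact (Ideal.map_comap_of_surjective g.toRingHom hg _).symm
  rw [h2]
  exact h1.map _

theorem local_kill {R A B : Type*} [CommRing R] [IsLocalRing R] [CommRing A] [CommRing B] [Algebra R A]
    [Algebra R B] [Module.Finite R A] [Module.Flat R A] [Algebra.FiniteType R B] (f : B →ₐ[R] A)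
    (hf : Function.Surjective f)
    (hk : ∀ x, f x = 0 → x ∈ (maximalIdeal R).map (algebraMap R B)) :
    ∃ b ∈ (maximalIdeal R).map (algebraMap R B), ∀ x, f x = 0 → (1 - b) * x = 0 := by
  have : Module.Free R A := Module.free_of_flat_of_isLocalRing
  have : Module.FinitePresentation R A := Module.finitePresentation_of_projective R A
  have : Algebra.FinitePresentation R A := Algebra.FinitePresentation.of_finitePresentation R A
  have hfg := ker_fg f hf
  obtain ⟨s, hs⟩ := Module.projective_lifting_property f.toLinearMap LinearMap.id hf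
  have hs' : ∀ a, f (s a) = a := fun a => congrArg (fun g => g a) (congrArg DFunLike.coe hs)
  set J : Ideal B := RingHom.ker f.toRingHom with hJ
  let π : B →ₗ[R] B := LinearMap.id - s ∘ₗ f.toLinearMap
  have hπ : ∀ x, π x = x - s (f x) := fun x => rfl
  have hπJ : ∀ x, π x ∈ J := by
    intro x
    rw [hJ, RingHom.mem_ker]
    change f (π x) = 0
    rw [hπ, map_sub, hs', sub_self]
  have hle : J ≤ ((maximalIdeal R).map (algebraMap R B)) * J := by
    intro x hx
    have hx0 : f x = 0 := hx
    have h1 : x ∈ ((maximalIdeal R) • (⊤ : Submodule R B)) := by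
      rw [Ideal.smul_top_eq_map]
      exact hk x hx0
    have h2 : ∀ y ∈ ((maximalIdeal R) • (⊤ : Submodule R B)),
        π y ∈ ((maximalIdeal R).map (algebraMap R B)) * J := by
      intro y hy
      refine Submodule.smul_induction_on hy ?_ ?_
      · intro r hr z _
        rw [map_smul, Algebra.smul_def]
        exact Ideal.mul_mem_mul (Ideal.mem_map_of_mem _ hr) (hπJ z)
      · intro y z hy hz
        rw [map_add]
        exact Submodule.add_mem _ hy hz
    have h3 := h2 x h1
    rwa [hπ, hx0, map_zero, sub_zero] at h3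
  obtain ⟨r, hr1, hr2⟩ := Submodule.exists_sub_one_mem_and_smul_eq_zero_of_fg_of_le_smul _ J hfg hle
  refine ⟨1 - r, ?_, ?_⟩
  · rw [← neg_sub]
    exact neg_mem hr1
  · intro x hx
    rw [sub_sub_cancel]
    exact hr2 x hx

theorem injective_of_fibres {R A B : Type u} [CommRing R] [CommRing A] [CommRing B] [Algebra R A] [Algebra R B]
    [Module.Finite R A] [Module.Flat R A] [Algebra.FiniteType R B]
    (f : B →ₐ[R] A) (hf : Function.Surjective f)
    (hinj : ∀ (p : Ideal R) [p.IsPrime], Function.Injective (LinearMap.lTensor p.ResidueField f.toLinearMap)) :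
    Function.Injective f := by
  rw [injective_iff_map_eq_zero]
  intro x hx
  by_contra hx0
  -- a maximal ideal containing the annihilator of `x`
  let I : Ideal B := Submodule.colon (⊥ : Ideal B) {x}
  have hI : I ≠ ⊤ := by
    intro h
    have h1 : (1 : B) ∈ I := h ▸ Submodule.mem_top
    rw [Submodule.mem_colon_singleton] at h1
    exact hx0 (by simpa using h1)
  obtain ⟨q, hq, hIq⟩ := Ideal.exists_le_maximal I hI
  let p : Ideal R := q.comap (algebraMap R B)
  have hp : p.IsPrime := Ideal.IsPrime.comap _
  let Rp := Localization.AtPrime p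
  let Bq := Localization.AtPrime q
  let fp : Rp ⊗[R] B →ₐ[Rp] Rp ⊗[R] A := Algebra.TensorProduct.map (AlgHom.id Rp Rp) f
  have hfp : Function.Surjective fp := LinearMap.lTensor_surjective Rp hf
  obtain ⟨b, hb, hkill⟩ := local_kill fp hfp (by
    intro y hy
    -- the image in the fibre vanishes
    let res : Rp →ₐ[R] p.ResidueField := IsScalarTower.toAlgHom R Rp p.ResidueField
    have h1 : (LinearMap.rTensor B res.toLinearMap) y = 0 := by
      apply hinj p
      rw [map_zero, ← LinearMap.comp_apply, LinearMap.lTensor_comp_rTensor,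
        ← LinearMap.rTensor_comp_lTensor, LinearMap.comp_apply]
      have h2 : (LinearMap.lTensor Rp f.toLinearMap) y = 0 := hy
      rw [h2, map_zero]
    have hexact : Function.Exact ((maximalIdeal Rp).restrictScalars R).subtype res.toLinearMap := by
      intro z
      constructor
      · intro hz
        have hz' : IsLocalRing.residue Rp z = 0 := hz
        rw [IsLocalRing.residue_eq_zero_iff] at hz'
        exact ⟨⟨z, hz'⟩, rfl⟩
      · rintro ⟨w, rfl⟩
        exact (IsLocalRing.residue_eq_zero_iff _).2 w.2
    have hsurj : Function.Surjective res.toLinearMap := IsLocalRing.residue_surjective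
    have hall : ∀ w, (LinearMap.rTensor B ((maximalIdeal Rp).restrictScalars R).subtype) w ∈
        (maximalIdeal Rp).map (algebraMap Rp (Rp ⊗[R] B)) := by
      intro w
      induction w using TensorProduct.induction_on with
      | zero => rw [map_zero]; exact Ideal.zero_mem _
      | tmul r c =>
        rw [LinearMap.rTensor_tmul]
        have : ((r : Rp) ⊗ₜ[R] c : Rp ⊗[R] B) = algebraMap Rp (Rp ⊗[R] B) r * (1 ⊗ₜ c) := by
          rw [Algebra.TensorProduct.algebraMap_apply, Algebra.TensorProduct.tmul_mul_tmul]
          simp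
        exact this ▸ Ideal.mul_mem_right _ _ (Ideal.mem_map_of_mem _ r.2)
      | add w₁ w₂ h₁ h₂ => rw [map_add]; exact Ideal.add_mem _ h₁ h₂
    obtain ⟨w, rfl⟩ := (rTensor_exact B hexact hsurj y).1 h1
    exact hall w)
  -- the map to the localization at `q`
  have hunits : ∀ y : p.primeCompl, IsUnit (algebraMap R Bq y) := by
    intro y
    rw [IsScalarTower.algebraMap_apply R B Bq]
    exact IsLocalization.map_units Bq (⟨algebraMap R B y, y.2⟩ : q.primeCompl)
  let φ : Rp →ₐ[R] Bq := IsLocalization.liftAlgHom (M := p.primeCompl) (f := Algebra.ofId R Bq) hunits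
  let ψ : Rp ⊗[R] B →ₐ[R] Bq := Algebra.TensorProduct.productMap φ (IsScalarTower.toAlgHom R B Bq)
  have hφ : ∀ r ∈ maximalIdeal Rp, φ r ∈ maximalIdeal Bq := by
    intro r hr
    obtain ⟨a, s, rfl⟩ := IsLocalization.exists_mk'_eq p.primeCompl r
    replace hr : a ∈ p := (IsLocalization.AtPrime.mk'_mem_maximal_iff Rp p a s).1 hr
    have h1 : φ (IsLocalization.mk' Rp a s) * algebraMap R Bq s = algebraMap R Bq a := by
      rw [← φ.commutes, ← map_mul, IsLocalization.mk'_spec, φ.commutes]
    have h2 : algebraMap R Bq a ∈ maximalIdeal Bq := by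
      rw [IsScalarTower.algebraMap_apply R B Bq, IsLocalization.AtPrime.to_map_mem_maximal_iff Bq q]
      exact hr
    rw [← h1] at h2
    exact (Ideal.mul_unit_mem_iff_mem _ (hunits s)).1 h2
  have hψ : ∀ c ∈ (maximalIdeal Rp).map (algebraMap Rp (Rp ⊗[R] B)), ψ c ∈ maximalIdeal Bq := by
    intro c hc
    have h1 : (maximalIdeal Rp).map (algebraMap Rp (Rp ⊗[R] B)) ≤ (maximalIdeal Bq).comap ψ.toRingHom := by
      rw [Ideal.map_le_iff_le_comap]
      intro r hr
      rw [Ideal.mem_comap, Ideal.mem_comap]
      change ψ (r ⊗ₜ[R] (1 : B)) ∈ _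
      rw [Algebra.TensorProduct.productMap_apply_tmul, map_one, mul_one]
      exact hφ r hr
    exact h1 hc
  have h1 : (1 - b) * ((1 : Rp) ⊗ₜ[R] x) = 0 := hkill _ (by
    change (1 : Rp) ⊗ₜ[R] f x = 0
    rw [hx, TensorProduct.tmul_zero])
  have h2 : (1 - ψ b) * algebraMap B Bq x = 0 := by
    have := congrArg ψ h1
    rw [map_mul, map_sub, map_one, map_zero, Algebra.TensorProduct.productMap_apply_tmul, map_one, one_mul] at this
    exact this
  have h3 : IsUnit (1 - ψ b) := by
    by_contra h
    have h4 : 1 - ψ b ∈ maximalIdeal Bq := h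
    have h5 : (1 : Bq) ∈ maximalIdeal Bq := by
      have := Ideal.add_mem _ h4 (hψ b hb)
      rwa [sub_add_cancel] at this
    exact (Ideal.ne_top_iff_one _).1 (maximalIdeal.isMaximal Bq).ne_top h5
  have h4 : algebraMap B Bq x = 0 := (h3.mul_right_eq_zero).1 h2
  obtain ⟨s, hs⟩ := (IsLocalization.map_eq_zero_iff q.primeCompl Bq x).1 h4
  apply s.2
  apply hIq
  rw [Submodule.mem_colon_singleton]
  exact hs

/-- Surjectivity can be tested on the fibres at the maximal ideals. -/
theorem surjective_of_fibres {R A B : Type u} [CommRing R] [CommRing A] [CommRing B] [Algebra R A] [Algebra R B]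
    [Module.Finite R A] (f : B →ₐ[R] A)
    (h : ∀ (m : Ideal R) [m.IsMaximal], Function.Surjective (LinearMap.lTensor m.ResidueField f.toLinearMap)) :
    Function.Surjective f := by
  let N : Submodule R A := LinearMap.range f.toLinearMap
  suffices hN : Subsingleton (A ⧸ N) by
    have h1 : N = ⊤ := Submodule.Quotient.subsingleton_iff.1 hN
    exact LinearMap.range_eq_top.1 h1
  rw [← Module.support_eq_empty_iff (R := R), Set.eq_empty_iff_forall_notMem]
  intro p hp
  obtain ⟨m, hm, hpm⟩ := Ideal.exists_le_maximal p.asIdeal p.2.ne_top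
  have hm' : (⟨m, hm.isPrime⟩ : PrimeSpectrum R) ∈ Module.support R (A ⧸ N) :=
    Module.mem_support_mono hpm hp
  rw [Module.mem_support_iff_nontrivial_residueField_tensorProduct] at hm'
  obtain ⟨x, hx⟩ := exists_ne (0 : (m.ResidueField) ⊗[R] (A ⧸ N))
  apply hx
  obtain ⟨y, rfl⟩ := LinearMap.lTensor_surjective m.ResidueField N.mkQ_surjective x
  obtain ⟨z, rfl⟩ := h m y
  rw [← LinearMap.comp_apply, ← LinearMap.lTensor_comp]
  have : N.mkQ ∘ₗ f.toLinearMap = 0 := by
    ext b
    exact (Submodule.Quotient.mk_eq_zero N).2 ⟨b, rfl⟩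
  rw [this, LinearMap.lTensor_zero, LinearMap.zero_apply]

theorem bijective_of_rank {R A B : Type u} [CommRing R] [CommRing A] [CommRing B] [Algebra R A] [Algebra R B]
    [Module.Finite R A] [Module.Flat R A] [Algebra.FiniteType R B]
    (f : B →ₐ[R] A)
    (hrank : ∀ p : PrimeSpectrum R,
      Module.rank p.asIdeal.ResidueField (p.asIdeal.ResidueField ⊗[R] B) =
        Module.rank p.asIdeal.ResidueField (p.asIdeal.ResidueField ⊗[R] A))
    (hmax : ∀ (m : Ideal R) [m.IsMaximal],
      Function.Bijective (LinearMap.lTensor m.ResidueField f.toLinearMap)) :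
    Function.Bijective f := by
  have hsurj := surjective_of_fibres f (fun m _ => (hmax m).2)
  refine ⟨injective_of_fibres f hsurj fun p hp => ?_, hsurj⟩
  let K := p.ResidueField
  let g : K ⊗[R] B →ₗ[K] K ⊗[R] A := f.toLinearMap.baseChange K
  have hg : Function.Surjective g := LinearMap.lTensor_surjective K hsurj
  have hr : Module.rank K (K ⊗[R] B) = Module.rank K (K ⊗[R] A) := hrank ⟨p, hp⟩
  have hA : Module.Finite K (K ⊗[R] A) := inferInstance
  have hB : Module.Finite K (K ⊗[R] B) := by
    rw [← Module.rank_lt_aleph0_iff, hr]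
    exact Module.rank_lt_aleph0 _ _
  have hfr : Module.finrank K (K ⊗[R] B) = Module.finrank K (K ⊗[R] A) := by
    rw [Module.finrank, Module.finrank, hr]
  exact (LinearMap.injective_iff_surjective_of_finrank_eq_finrank hfr).2 hg

end K83.FibreIso
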