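import Mathlib.Algebra.MvPolynomial.Equiv
import Mathlib.Algebra.Polynomial.Derivative
import Mathlib.Algebra.Polynomial.Eval.Coeff
import Mathlib.Tactic.LinearCombination

/-! The functional equation `F(S)F(T) = F(S+T+μST)` and the differential equation `a₁F = F'(1+μX)`. -/

set_option autoImplicit false
universe u

namespace K83.FormalGrp

open Polynomial

variable {B : Type u} [CommRing B]

theorem coeff_rel (μ : B) (G : B[X]) (a : B) (h : derivative G * (1 + C μ * X) = G * C a) (k : ℕ) :
    ((k + 1 : ℕ) : B) * G.coeff (k + 1) = (a - k * μ) * G.coeff k := by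
  have h1 := congrArg (fun q => q.coeff k) h
  simp only [coeff_mul_C] at h1
  rw [mul_add, mul_one, coeff_add, mul_comm (C μ) X, ← mul_assoc, coeff_mul_C] at h1
  cases k with
  | zero =>
    simp only [coeff_mul_X_zero, coeff_derivative] at h1
    push_cast at h1 ⊢
    linear_combination h1
  | succ k =>
    simp only [coeff_mul_X, coeff_derivative] at h1
    push_cast at h1 ⊢
    linear_combination h1

theorem isUnit_of_lt {p : ℕ} (hu : IsUnit ((Nat.factorial (p - 1) : ℕ) : B)) (k : ℕ) (hk : k + 1 < p) :
    IsUnit ((k + 1 : ℕ) : B) := by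
  have h1 : (k + 1) ∣ Nat.factorial (p - 1) := Nat.dvd_factorial (Nat.succ_pos k) (by omega)
  obtain ⟨c, hc⟩ := h1
  rw [hc, Nat.cast_mul] at hu
  exact isUnit_of_mul_isUnit_left hu

/-- Solutions of `G'(1+μT) = aG` of degree `< p` with zero constant term vanish. -/
theorem eq_zero_of_ode {p : ℕ} (hu : IsUnit ((Nat.factorial (p - 1) : ℕ) : B)) (μ : B) (G : B[X]) (a : B)
    (h : derivative G * (1 + C μ * X) = G * C a) (h0 : G.coeff 0 = 0) (hdeg : ∀ k, p ≤ k → G.coeff k = 0) :
    G = 0 := by
  have h1 : ∀ k, k < p → G.coeff k = 0 := by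
    intro k
    induction k with
    | zero => intro _; exact h0
    | succ k ih =>
      intro hk
      have h2 := coeff_rel μ G a h k
      rw [ih (by omega), mul_zero] at h2
      exact ((isUnit_of_lt hu k hk).mul_right_eq_zero).1 h2
  ext k
  rw [coeff_zero]
  by_cases hk : k < p
  · exact h1 k hk
  · exact hdeg k (by omega)

theorem functional {p : ℕ} (hp : 1 < p) (hu : IsUnit ((Nat.factorial (p - 1) : ℕ) : B)) (μ : B) (F : B[X])
    (hF : F.natDegree < p) (h : F * C (F.coeff 1) = derivative F * (1 + C μ * X)) (s : B) :
    C (F.eval s) * F - C (F.coeff 0 ^ 2) = F.comp (C s + X + C μ * C s * X) - C (F.coeff 0) := by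
  set U : B[X] := C s + X + C μ * C s * X with hU
  have hdU : derivative U = 1 + C μ * C s := by
    rw [hU]
    simp only [derivative_add, derivative_C, derivative_X, derivative_mul, mul_one, zero_add,
      mul_zero, zero_mul]
  have hrel : ∀ k, ((k + 1 : ℕ) : B) * F.coeff (k + 1) = (F.coeff 1 - k * μ) * F.coeff k :=
    coeff_rel μ F _ h.symm
  have h00 : (F.coeff 0 - 1) * F.coeff 1 = 0 := by
    have := hrel 0
    push_cast at this
    linear_combination -this
  have h01 : ∀ k, 1 ≤ k → (F.coeff 0 - 1) * F.coeff k = 0 := by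
    intro k hk
    induction k, hk using Nat.le_induction with
    | base => exact h00
    | succ k hk ih =>
      by_cases hkp : k + 1 < p
      · have h1 := hrel k
        have h2 : ((k + 1 : ℕ) : B) * ((F.coeff 0 - 1) * F.coeff (k + 1)) = 0 := by
          have : ((k + 1 : ℕ) : B) * ((F.coeff 0 - 1) * F.coeff (k + 1)) =
              (F.coeff 1 - k * μ) * ((F.coeff 0 - 1) * F.coeff k) := by
            linear_combination (F.coeff 0 - 1) * h1
          rw [this, ih, mul_zero]
        exact ((isUnit_of_lt hu k hkp).mul_right_eq_zero).1 h2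
      · rw [coeff_eq_zero_of_natDegree_lt (show F.natDegree < k + 1 by omega), mul_zero]
  have hF1 : C (F.coeff 0 - 1) * (F - C (F.coeff 0)) = 0 := by
    ext k
    rw [coeff_C_mul, coeff_sub, coeff_C, coeff_zero]
    split_ifs with hk
    · rw [hk, sub_self, mul_zero]
    · rw [sub_zero]; exact h01 k (by omega)
  let G : B[X] := C (F.eval s) * F - F.comp U - C (F.coeff 0 ^ 2 - F.coeff 0)
  suffices hG : G = 0 by
    have : C (F.coeff 0 ^ 2 - F.coeff 0) = (C (F.coeff 0 ^ 2) - C (F.coeff 0) : B[X]) := by
      rw [C_sub]
    simp only [G, this] at hG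
    linear_combination hG
  refine eq_zero_of_ode (p := p) hu μ G (F.coeff 1) ?_ ?_ ?_
  · -- the differential equation
    have h1 : derivative G = C (F.eval s) * derivative F - (derivative U * (derivative F).comp U) := by
      simp only [G, derivative_sub, derivative_C, derivative_mul, derivative_comp, zero_mul, zero_add,
        sub_zero]
    have h2 : (derivative F).comp U * (1 + C μ * U) = F.comp U * C (F.coeff 1) := by
      have := congrArg (fun q => q.comp U) h
      simp only [mul_comp, C_comp, add_comp, one_comp, X_comp] at this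
      exact this.symm
    have h3 : (1 + C μ * U : B[X]) = (1 + C μ * C s) * (1 + C μ * X) := by rw [hU]; ring
    have h4 : C (F.coeff 0 ^ 2 - F.coeff 0) * C (F.coeff 1) = (0 : B[X]) := by
      rw [← C_mul]
      have : (F.coeff 0 ^ 2 - F.coeff 0) * F.coeff 1 = 0 := by linear_combination F.coeff 0 * h00
      rw [this, C_0]
    rw [h1, hdU]
    rw [h3] at h2
    simp only [G]
    linear_combination (-C (F.eval s)) * h - h2 + h4
  · -- constant coefficient
    have h1 : G.coeff 0 = F.eval s * F.coeff 0 - F.eval s - (F.coeff 0 ^ 2 - F.coeff 0) := by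
      simp only [G, coeff_sub, coeff_C_mul, coeff_C_zero]
      congr 2
      rw [coeff_zero_eq_eval_zero, eval_comp]
      simp [hU]
    have h2 := congrArg (fun q => q.eval s) hF1
    simp only [eval_mul, eval_C, eval_sub, eval_zero] at h2
    rw [h1]
    linear_combination h2
  · intro k hk
    have hdeg : (F.comp U).natDegree < p := by
      refine lt_of_le_of_lt natDegree_comp_le ?_
      have hUd : U.natDegree ≤ 1 := by
        rw [hU]
        refine (natDegree_add_le _ _).trans (max_le ((natDegree_add_le _ _).trans (max_le ?_ ?_)) ?_)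
        · simp
        · exact natDegree_X_le
        · rw [← C_mul]; exact (natDegree_C_mul_le _ _).trans natDegree_X_le
      calc F.natDegree * U.natDegree ≤ F.natDegree * 1 := Nat.mul_le_mul_left _ hUd
        _ < p := by omega
    have hk0 : k ≠ 0 := by omega
    simp only [G, coeff_sub, coeff_C_mul, coeff_C, if_neg hk0, sub_zero]
    rw [coeff_eq_zero_of_natDegree_lt (by omega : F.natDegree < k),
      coeff_eq_zero_of_natDegree_lt (by omega : (F.comp U).natDegree < k)]
    ring

theorem ode_of_functional (μ : B) (F : B[X]) (s : B)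
    (h : C (F.eval s) * F - C (F.coeff 0 ^ 2) = F.comp (C s + X + C μ * C s * X) - C (F.coeff 0)) :
    F.eval s * F.coeff 1 = (derivative F).eval s * (1 + μ * s) := by
  have h1 := congrArg (fun q => (derivative q).eval 0) h
  simp only [derivative_sub, derivative_C, derivative_mul, derivative_comp, zero_mul, zero_add,
        sub_zero, eval_mul, eval_C, derivative_add, derivative_X, mul_one, eval_add, eval_one, eval_comp,
        eval_X, mul_zero, add_zero] at h1
  rw [← coeff_zero_eq_eval_zero, coeff_derivative] at h1
  push_cast at h1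
  linear_combination h1

end K83.FormalGrp
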