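import Groth.Agent.Ega4A.QuotLoc
import Groth.Agent.Ega4A.RegEtale
import Groth.Agent.S0560
import Mathlib.RingTheory.Etale.StandardEtale
import Mathlib.RingTheory.AdjoinRoot
import Mathlib.RingTheory.Flat.TorsionFree
import Mathlib.Algebra.DualNumber
import Mathlib.RingTheory.LocalRing.ResidueField.Ideal

/-! The Kummer algebra `A[t]/(t^e - s)`: étale away from `t`, quotient by `t` is `A/(s)`, regularity. -/

set_option autoImplicit false
universe u

namespace K83.Kummer

open Polynomial

variable {A : Type u} [CommRing A] (s : A) (e : ℕ)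

theorem etale_away (he : 0 < e) (heu : IsUnit (e : A)) :
    Algebra.Etale A (Localization.Away (AdjoinRoot.root (X ^ e - C s))) := by
  let P : StandardEtalePair A :=
    { f := X ^ e - C s
      monic_f := monic_X_pow_sub_C s he.ne'
      g := X
      cond := by
        refine ⟨C ((heu.unit⁻¹ : Aˣ) : A), 0, e - 1, ?_⟩
        rw [derivative_sub, derivative_X_pow, derivative_C, sub_zero, mul_zero, add_zero]
        have h1 : (C ((e : ℕ) : A) : A[X]) * C ((heu.unit⁻¹ : Aˣ) : A) = 1 := by
          rw [← C_mul]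
          have : (e : A) * ((heu.unit⁻¹ : Aˣ) : A) = 1 := heu.mul_val_inv
          rw [this, C_1]
        rw [mul_assoc, mul_comm, mul_assoc, mul_comm _ (C ((e : ℕ) : A)), h1, mul_one] }
  have e1 := P.equivAwayAdjoinRoot
  exact Algebra.Etale.of_equiv e1

/-- `A[t]/(t^e - s) → A/(s)`, `t ↦ 0`. -/
noncomputable def toQuot (he : 0 < e) : AdjoinRoot (X ^ e - C s) →+* A ⧸ Ideal.span {s} :=
  AdjoinRoot.lift (Ideal.Quotient.mk _) 0 (by
    rw [eval₂_sub, eval₂_pow, eval₂_X, eval₂_C, zero_pow he.ne', zero_sub, neg_eq_zero]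
    exact Ideal.Quotient.eq_zero_iff_mem.2 (Ideal.mem_span_singleton_self s))

theorem toQuot_of (he : 0 < e) (a : A) : toQuot s e he (AdjoinRoot.of _ a) = Ideal.Quotient.mk _ a :=
  AdjoinRoot.lift_of _

theorem toQuot_root (he : 0 < e) : toQuot s e he (AdjoinRoot.root _) = 0 :=
  AdjoinRoot.lift_root _

theorem toQuot_surjective (he : 0 < e) : Function.Surjective (toQuot s e he) := by
  intro x
  obtain ⟨a, rfl⟩ := Ideal.Quotient.mk_surjective x
  exact ⟨AdjoinRoot.of _ a, toQuot_of s e he a⟩

theorem root_pow : (AdjoinRoot.root (X ^ e - C s)) ^ e = AdjoinRoot.of _ s := by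
  have h1 := AdjoinRoot.eval₂_root (X ^ e - C s)
  rwa [eval₂_sub, eval₂_pow, eval₂_X, eval₂_C, sub_eq_zero] at h1

theorem ker_toQuot (he : 0 < e) :
    RingHom.ker (toQuot s e he) = Ideal.span {AdjoinRoot.root (X ^ e - C s)} := by
  apply le_antisymm
  · intro b hb
    obtain ⟨g, rfl⟩ := AdjoinRoot.mk_surjective b
    rw [RingHom.mem_ker] at hb
    have h1 : AdjoinRoot.mk (X ^ e - C s) g = AdjoinRoot.root _ * AdjoinRoot.mk _ g.divX +
        AdjoinRoot.of _ (g.coeff 0) := by
      conv_lhs => rw [← Polynomial.X_mul_divX_add g]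
      rw [map_add, map_mul, AdjoinRoot.mk_X, AdjoinRoot.mk_C]
    rw [h1] at hb ⊢
    rw [map_add, map_mul, toQuot_root, zero_mul, zero_add, toQuot_of, Ideal.Quotient.eq_zero_iff_mem,
      Ideal.mem_span_singleton] at hb
    obtain ⟨c, hc⟩ := hb
    refine Ideal.add_mem _ (Ideal.mul_mem_right _ _ (Ideal.mem_span_singleton_self _)) ?_
    rw [hc, map_mul, ← root_pow s e]
    exact Ideal.mul_mem_right (AdjoinRoot.of (X ^ e - C s) c) _
      (Ideal.pow_mem_of_mem _ (Ideal.mem_span_singleton_self _) e he)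
  · rw [Ideal.span_singleton_le_iff_mem, RingHom.mem_ker]
    exact toQuot_root s e he

theorem root_mem_nonZeroDivisors (he : 0 < e) (hs : s ∈ nonZeroDivisors A) :
    AdjoinRoot.root (X ^ e - C s) ∈ nonZeroDivisors (AdjoinRoot (X ^ e - C s)) := by
  have hfree : Module.Free A (AdjoinRoot (X ^ e - C s)) := (monic_X_pow_sub_C s he.ne').free_adjoinRoot
  have h1 : AdjoinRoot.root (X ^ e - C s) ^ e ∈ nonZeroDivisors (AdjoinRoot (X ^ e - C s)) := by
    rw [root_pow s e, mem_nonZeroDivisors_iff_right]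
    intro x hx
    have h2 : s • x = s • (0 : AdjoinRoot (X ^ e - C s)) := by
      rw [smul_zero, Algebra.smul_def, mul_comm]; exact hx
    exact Module.Flat.isSMulRegular_of_nonZeroDivisors (R := A) hs h2
  rw [mem_nonZeroDivisors_iff_right] at h1 ⊢
  intro x hx
  apply h1
  rw [← mul_pow_sub_one he.ne' (AdjoinRoot.root (X ^ e - C s)), ← mul_assoc, hx, zero_mul]

/-- For a prime `q` of `A[t]/(t^e - s)` containing `t`, the quotient of the local ring by `t` is a local ring of
`A/(s)`. -/
theorem exists_equiv (he : 0 < e) (q : Ideal (AdjoinRoot (X ^ e - C s))) [q.IsPrime]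
    (hq : AdjoinRoot.root (X ^ e - C s) ∈ q) :
    ∃ (r : Ideal (A ⧸ Ideal.span {s})) (_ : r.IsPrime), q = r.comap (toQuot s e he) ∧
      Nonempty ((Localization.AtPrime q ⧸ Ideal.span {algebraMap _ (Localization.AtPrime q)
        (AdjoinRoot.root (X ^ e - C s))}) ≃+* Localization.AtPrime r) := by
  have hker : RingHom.ker (toQuot s e he) ≤ q := by
    rw [ker_toQuot, Ideal.span_singleton_le_iff_mem]; exact hq
  let r : Ideal (A ⧸ Ideal.span {s}) := q.map (toQuot s e he)
  have hr : r.IsPrime := Ideal.map_isPrime_of_surjective (toQuot_surjective s e he) hker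
  have hqr : q = r.comap (toQuot s e he) := by
    rw [Ideal.comap_map_of_surjective _ (toQuot_surjective s e he)]
    exact (sup_eq_left.2 hker).symm
  refine ⟨r, hr, hqr, ?_⟩
  have e1 := Groth.Agent.Ega4A.QuotLoc.quotLocEquiv (toQuot s e he) (toQuot_surjective s e he) r q hqr
    (RingHom.ker (toQuot s e he)) le_rfl
  have h2 : (RingHom.ker (toQuot s e he)).map (toQuot s e he) = ⊥ := by
    rw [Ideal.map_eq_bot_iff_le_ker]
  have h3 : (RingHom.ker (toQuot s e he)).map (algebraMap _ (Localization.AtPrime q)) =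
      Ideal.span {algebraMap _ (Localization.AtPrime q) (AdjoinRoot.root (X ^ e - C s))} := by
    rw [ker_toQuot, Ideal.map_span, Set.image_singleton]
  rw [h2, Ideal.map_bot, h3] at e1
  exact ⟨e1.trans (RingEquiv.quotientBot _)⟩

theorem isRegularRing [IsRegularRing A] (he : 0 < e) (heu : IsUnit (e : A)) (hs : s ∈ nonZeroDivisors A)
    [IsRegularRing (A ⧸ Ideal.span {s})] : IsRegularRing (AdjoinRoot (X ^ e - C s)) := by
  have hfin : Module.Finite A (AdjoinRoot (X ^ e - C s)) := (monic_X_pow_sub_C s he.ne').finite_adjoinRoot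
  have hN : IsNoetherianRing (AdjoinRoot (X ^ e - C s)) := IsNoetherianRing.of_finite A _
  rw [isRegularRing_iff]
  intro q hq
  by_cases ht : AdjoinRoot.root (X ^ e - C s) ∈ q
  · obtain ⟨r, hr, hqr, ⟨e1⟩⟩ := exists_equiv s e he q ht
    have h1 : IsRegularLocalRing (Localization.AtPrime r) := isRegularRing_iff.1 inferInstance r
    have h2 : IsRegularLocalRing (Localization.AtPrime q ⧸ Ideal.span {algebraMap _ (Localization.AtPrime q)
        (AdjoinRoot.root (X ^ e - C s))}) := IsRegularLocalRing.of_ringEquiv e1.symm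
    refine Groth.Agent.S0560.result (Localization.AtPrime q)
      (algebraMap _ _ (AdjoinRoot.root (X ^ e - C s))) ?_ ?_
    · exact (IsLocalization.AtPrime.to_map_mem_maximal_iff _ q _).2 ht
    · exact IsLocalization.map_nonZeroDivisors_le q.primeCompl _
        ⟨_, root_mem_nonZeroDivisors s e he hs, rfl⟩
  · have h1 := etale_away s e he heu
    have h2 : IsRegularRing (Localization.Away (AdjoinRoot.root (X ^ e - C s))) :=
      Groth.Agent.Ega4A.RegEtale.isRegularRing_of_etale A _
    exact Groth.Agent.Ega4A.RegEtale.isRegularLocalRing_atPrime_of_away _ _ q ht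

end K83.Kummer
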