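import Groth.Agent.CAlg.K83.Kummer
import Groth.Agent.S0558
import Groth.Agent.S2941
import Groth.Agent.CalgC.RegSmooth
import Mathlib.RingTheory.Etale.Descent
import Mathlib.RingTheory.Ideal.IdempotentFG
import Mathlib.FieldTheory.IsAlgClosed.AlgebraicClosure
import Mathlib.RingTheory.Smooth.Locus

/-! Smoothness of `A[t]/(t^e - s)` over a field. -/

set_option autoImplicit false
universe u

namespace K83.KummerSmooth

open Polynomial TensorProduct IsLocalRing

/-- In a Noetherian ring whose local rings are domains, irreducible elements are nonzerodivisors. -/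
theorem irreducible_mem_nonZeroDivisors {A : Type u} [CommRing A] [IsNoetherianRing A]
    (hdom : ∀ (m : Ideal A) [m.IsMaximal], IsDomain (Localization.AtPrime m)) (s : A) (hs : Irreducible s) :
    s ∈ nonZeroDivisors A := by
  rw [mem_nonZeroDivisors_iff_right]
  intro a ha
  let I : Ideal A := LinearMap.ker (LinearMap.mulRight A s)
  have hI : ∀ x, x ∈ I ↔ x * s = 0 := fun x => by rw [LinearMap.mem_ker]; rfl
  have hidem : IsIdempotentElem I := by
    apply le_antisymm Ideal.mul_le_right
    refine Ideal.le_of_localization_maximal fun m hm => ?_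
    have := hdom m
    by_cases hsm : algebraMap A (Localization.AtPrime m) s = 0
    · obtain ⟨u, hu⟩ := (IsLocalization.map_eq_zero_iff m.primeCompl (Localization.AtPrime m) s).1 hsm
      have huI : (u : A) ∈ I := (hI _).2 hu
      have h1 : (I * I).map (algebraMap A (Localization.AtPrime m)) = ⊤ := by
        rw [Ideal.eq_top_iff_one]
        have h2 : IsUnit (algebraMap A (Localization.AtPrime m) ((u : A) * u)) := by
          rw [map_mul]
          exact (IsLocalization.map_units _ u).mul (IsLocalization.map_units _ u)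
        have h3 := Ideal.mem_map_of_mem (algebraMap A (Localization.AtPrime m)) (Ideal.mul_mem_mul huI huI)
        exact (Ideal.eq_top_iff_one _).1 (Ideal.eq_top_of_isUnit_mem _ h3 h2)
      rw [h1]; exact le_top
    · have h1 : I.map (algebraMap A (Localization.AtPrime m)) = ⊥ := by
        rw [eq_bot_iff, Ideal.map_le_iff_le_comap]
        intro x hx
        rw [hI] at hx
        have h2 := congrArg (algebraMap A (Localization.AtPrime m)) hx
        rw [map_mul, map_zero] at h2
        exact (mul_eq_zero.1 h2).resolve_right hsm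
      rw [h1]; exact bot_le
  obtain ⟨f, hf, hIf⟩ := (Ideal.isIdempotentElem_iff_of_fg I (IsNoetherian.noetherian I)).1 hidem
  have hfI : f ∈ I := by rw [hIf]; exact Submodule.mem_span_singleton_self f
  have hfs : f * s = 0 := (hI f).1 hfI
  have hs2 : s = s * (1 - f) := by linear_combination hfs
  rcases hs.isUnit_or_isUnit hs2 with h | h
  · exact absurd h hs.not_isUnit
  · have hf0 : f = 0 := by
      have h1 : f * (1 - f) = 0 := by
        rw [mul_sub, mul_one, hf.eq, sub_self]
      exact (h.mul_left_eq_zero).1 h1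
    have haI : a ∈ I := (hI a).2 ha
    rw [hIf, hf0] at haI
    obtain ⟨c, hc⟩ := Submodule.mem_span_singleton.1 haI
    rw [← hc, smul_zero]

variable {A : Type u} [CommRing A] (s : A) (e : ℕ)

/-- If `A[t]/(t^e - s)`, `e ≥ 2`, is regular then so is `A/(s)`. -/
theorem isRegularRing_quot [IsNoetherianRing A] (he : 2 ≤ e) [IsRegularRing (AdjoinRoot (X ^ e - C s))] :
    IsRegularRing (A ⧸ Ideal.span {s}) := by
  have he0 : 0 < e := by omega
  rw [isRegularRing_iff]
  intro r hr
  let B := AdjoinRoot (X ^ e - C s)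
  let q : Ideal B := r.comap (K83.Kummer.toQuot s e he0)
  have hq : q.IsPrime := Ideal.IsPrime.comap _
  have ht : AdjoinRoot.root (X ^ e - C s) ∈ q := by
    rw [Ideal.mem_comap, K83.Kummer.toQuot_root]; exact Ideal.zero_mem _
  obtain ⟨r', hr', hqr, ⟨e1⟩⟩ := K83.Kummer.exists_equiv s e he0 q ht
  have hrr : r = r' := Ideal.comap_injective_of_surjective _ (K83.Kummer.toQuot_surjective s e he0) hqr
  subst hrr
  let Bq := Localization.AtPrime q
  have hreg : IsRegularLocalRing Bq := isRegularRing_iff.1 inferInstance q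
  set t : Bq := algebraMap B Bq (AdjoinRoot.root (X ^ e - C s)) with htdef
  have htm : t ∈ maximalIdeal Bq := (IsLocalization.AtPrime.to_map_mem_maximal_iff Bq q _).2 ht
  have htm2 : t ∉ maximalIdeal Bq * maximalIdeal Bq := by
    intro hmem
    -- the map to the dual numbers
    let K := r.ResidueField
    let ρ : (A ⧸ Ideal.span {s}) →+* K := algebraMap _ K
    have hρ : ∀ x, ρ x = 0 ↔ x ∈ r := fun x => Ideal.algebraMap_residueField_eq_zero
    let ι : K →+* DualNumber K := TrivSqZeroExt.inlHom K K
    let ψ : B →+* DualNumber K := AdjoinRoot.lift ((ι.comp ρ).comp (Ideal.Quotient.mk _)) DualNumber.eps (by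
      rw [eval₂_sub, eval₂_pow, eval₂_X, eval₂_C]
      have h1 : (DualNumber.eps : DualNumber K) ^ e = 0 := by
        obtain ⟨n, rfl⟩ := Nat.exists_eq_add_of_le he
        rw [pow_add, pow_two, DualNumber.eps_mul_eps, zero_mul]
      have h2 : Ideal.Quotient.mk (Ideal.span {s}) s = 0 :=
        Ideal.Quotient.eq_zero_iff_mem.2 (Ideal.mem_span_singleton_self s)
      rw [h1, RingHom.comp_apply, h2, map_zero, sub_zero])
    have hfst : ∀ b : B, (ψ b).fst = ρ (K83.Kummer.toQuot s e he0 b) := by
      intro b
      have h1 : ((TrivSqZeroExt.fstHom K K K).toRingHom.comp ψ) = ρ.comp (K83.Kummer.toQuot s e he0) := by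
        apply AdjoinRoot.ringHom_ext
        · refine RingHom.ext fun a => ?_
          change (ψ (AdjoinRoot.of _ a)).fst = ρ (K83.Kummer.toQuot s e he0 (AdjoinRoot.of _ a))
          rw [K83.Kummer.toQuot_of, AdjoinRoot.lift_of]
          rfl
        · change (ψ (AdjoinRoot.root _)).fst = ρ (K83.Kummer.toQuot s e he0 (AdjoinRoot.root _))
          rw [K83.Kummer.toQuot_root, AdjoinRoot.lift_root, map_zero]
          rfl
      exact congrArg (fun g => g b) (congrArg DFunLike.coe h1)
    have hunit : ∀ y : q.primeCompl, IsUnit (ψ y) := by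
      intro y
      rw [TrivSqZeroExt.isUnit_iff_isUnit_fst, hfst, isUnit_iff_ne_zero, Ne, hρ]
      exact y.2
    let Ψ : Bq →+* DualNumber K := IsLocalization.lift hunit
    have hΨ : ∀ b : B, Ψ (algebraMap B Bq b) = ψ b := fun b => IsLocalization.lift_eq hunit b
    have hmax : ∀ x ∈ maximalIdeal Bq, (Ψ x).fst = 0 := by
      intro x hx
      obtain ⟨b, y, rfl⟩ := IsLocalization.exists_mk'_eq q.primeCompl x
      have hb : b ∈ q := (IsLocalization.AtPrime.mk'_mem_maximal_iff Bq q b y).1 hx
      have h1 : Ψ (IsLocalization.mk' Bq b y) * ψ y = ψ b := by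
        rw [← hΨ, ← map_mul, IsLocalization.mk'_spec, hΨ]
      have h2 := congrArg TrivSqZeroExt.fst h1
      rw [TrivSqZeroExt.fst_mul, hfst b, (hρ _).2 hb] at h2
      have h3 : (ψ y).fst ≠ 0 := by
        rw [hfst, Ne, hρ]; exact y.2
      exact (mul_eq_zero.1 h2).resolve_right h3
    have hzero : maximalIdeal Bq * maximalIdeal Bq ≤ RingHom.ker Ψ := by
      rw [Ideal.mul_le]
      intro x hx y hy
      rw [RingHom.mem_ker, map_mul]
      ext
      · rw [TrivSqZeroExt.fst_mul, hmax x hx, zero_mul]; rfl
      · rw [TrivSqZeroExt.snd_mul, hmax x hx, hmax y hy]; simp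
    have h1 := hzero hmem
    rw [RingHom.mem_ker, htdef, hΨ] at h1
    have h2 : ψ (AdjoinRoot.root (X ^ e - C s)) = DualNumber.eps := AdjoinRoot.lift_root _
    rw [h2] at h1
    have h3 := congrArg TrivSqZeroExt.snd h1
    rw [DualNumber.snd_eps] at h3
    exact one_ne_zero h3
  obtain ⟨d, hd⟩ : ∃ d : ℕ, ringKrullDim Bq = d :=
    ⟨_, (IsRegularLocalRing.spanFinrank_maximalIdeal (R := Bq)).symm⟩
  have h1 : IsRegularLocalRing (Bq ⧸ Ideal.span {t}) :=
    (Groth.Agent.S2941.quotient_regular Bq d hd t htm htm2).1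
  exact IsRegularLocalRing.of_ringEquiv e1

/-- Smoothness over a field is regularity over the algebraic closure. -/
theorem smooth_iff (k C : Type u) [Field k] [CommRing C] [Algebra k C] [Algebra.FiniteType k C] :
    Algebra.Smooth k C ↔ IsRegularRing (AlgebraicClosure k ⊗[k] C) := by
  constructor
  · intro h
    have h1 : Algebra.Smooth (AlgebraicClosure k) (AlgebraicClosure k ⊗[k] C) := inferInstance
    exact Groth.Agent.Ega4A.RegEtale.isRegularRing_of_smooth (AlgebraicClosure k) _
  · intro h
    have hfp : Algebra.FinitePresentation (AlgebraicClosure k) (AlgebraicClosure k ⊗[k] C) :=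
      Algebra.FinitePresentation.of_finiteType.1 inferInstance
    have h1 : Algebra.Smooth (AlgebraicClosure k) (AlgebraicClosure k ⊗[k] C) := by
      refine ⟨?_, hfp⟩
      rw [← Algebra.smoothLocus_eq_univ_iff, Set.eq_univ_iff_forall]
      intro q
      exact (Groth.Agent.CalgC.RegSmooth.isSmoothAt_iff_isRegularLocalRing_of_perfectField q.asIdeal).2
        (isRegularRing_iff.1 h q.asIdeal)
    exact Algebra.Smooth.of_smooth_tensorProduct_of_faithfullyFlat (AlgebraicClosure k)

theorem smooth_kummer_iff (k A : Type u) [Field k] [CommRing A] [Algebra k A]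
    [Algebra.Smooth k A] (s : A) (hs : Irreducible s) (e : ℕ) (he : 2 ≤ e) (hek : (e : k) ≠ 0) :
    Algebra.Smooth k (AdjoinRoot (X ^ e - C s)) ↔ Algebra.Smooth k (A ⧸ Ideal.span {s}) := by
  have he0 : 0 < e := by omega
  have hft : Algebra.FiniteType k A := inferInstance
  have hN : IsNoetherianRing A := Algebra.FiniteType.isNoetherianRing k A
  have hreg : IsRegularRing A := Groth.Agent.Ega4A.RegEtale.isRegularRing_of_smooth k A
  have hdom : ∀ (m : Ideal A) [m.IsMaximal], IsDomain (Localization.AtPrime m) := by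
    intro m _
    have := isRegularRing_iff.1 hreg m
    exact Groth.Agent.S0558.result _
  have hsnz : s ∈ nonZeroDivisors A := irreducible_mem_nonZeroDivisors hdom s hs
  have hfin : Module.Finite A (AdjoinRoot (X ^ e - C s)) := (monic_X_pow_sub_C s he0.ne').finite_adjoinRoot
  have hftB : Algebra.FiniteType k (AdjoinRoot (X ^ e - C s)) := .trans hft inferInstance
  rw [smooth_iff, smooth_iff]
  let K := AlgebraicClosure k
  let A' := K ⊗[k] A
  let s' : A' := 1 ⊗ₜ s
  have hregA' : IsRegularRing A' := (smooth_iff k A).1 inferInstance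
  let φ : A →ₐ[k] A' := Algebra.TensorProduct.includeRight
  have hs'nz : s' ∈ nonZeroDivisors A' := by
    rw [mem_nonZeroDivisors_iff_right]
    intro x hx
    let f : A →ₗ[k] A := LinearMap.mulRight k s
    have hf : Function.Injective f := by
      rw [injective_iff_map_eq_zero]
      intro a ha
      exact (mem_nonZeroDivisors_iff_right.1 hsnz) a ha
    have h1 := Module.Flat.lTensor_preserves_injective_linearMap (M := K) f hf
    have h2 : ∀ y : A', (LinearMap.lTensor K f) y = y * s' := by
      intro y
      induction y using TensorProduct.induction_on with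
      | zero => rw [map_zero, zero_mul]
      | tmul c a =>
        rw [LinearMap.lTensor_tmul, Algebra.TensorProduct.tmul_mul_tmul, mul_one]
        rfl
      | add y z hy hz => rw [map_add, hy, hz, add_mul]
    apply h1
    rw [h2, hx, map_zero]
  have hp : (X ^ e - C s : A[X]).map (Algebra.TensorProduct.includeRight : A →ₐ[k] K ⊗[k] A).toRingHom =
      X ^ e - C s' := by
    rw [Polynomial.map_sub, Polynomial.map_pow, Polynomial.map_X, Polynomial.map_C]
    rfl
  let e1 : K ⊗[k] AdjoinRoot (X ^ e - C s) ≃ₐ[K] AdjoinRoot (X ^ e - C s') :=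
    AdjoinRoot.tensorAlgEquiv _ _ hp
  have e2 : Nonempty (K ⊗[k] (A ⧸ Ideal.span {s}) ≃+* A' ⧸ Ideal.span {s'}) := by
    have e3 := Algebra.TensorProduct.tensorQuotientEquiv (R := k) K A K (Ideal.span {s})
    have h3 : (Ideal.span {s}).map (Algebra.TensorProduct.includeRight : A →ₐ[k] K ⊗[k] A) =
        Ideal.span {s'} := by
      rw [Ideal.map_span, Set.image_singleton]
      rfl
    exact ⟨e3.toRingEquiv.trans (Ideal.quotEquivOfEq h3)⟩
  obtain ⟨e2⟩ := e2
  have heu : IsUnit (e : A') := by
    have h1 : IsUnit (e : k) := isUnit_iff_ne_zero.2 hek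
    have := h1.map (algebraMap k A')
    rwa [map_natCast] at this
  constructor
  · intro h
    have h1 : IsRegularRing (AdjoinRoot (X ^ e - C s')) := IsRegularRing.of_ringEquiv e1.toRingEquiv
    have h2 : IsRegularRing (A' ⧸ Ideal.span {s'}) := isRegularRing_quot s' e he
    exact IsRegularRing.of_ringEquiv e2.symm
  · intro h
    have h1 : IsRegularRing (A' ⧸ Ideal.span {s'}) := IsRegularRing.of_ringEquiv e2
    have h2 : IsRegularRing (AdjoinRoot (X ^ e - C s')) := K83.Kummer.isRegularRing s' e he0 heu hs'nz
    exact IsRegularRing.of_ringEquiv e1.symm.toRingEquiv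

end K83.KummerSmooth
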