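import Mathlib.RingTheory.AdicCompletion.Completeness

/-! Inverse limits of modules killed by powers of a finitely generated ideal are adically complete. -/

set_option autoImplicit false
universe u v w

namespace K83.LimComplete

/-- A retract of an `I`-adically complete module is complete. -/
theorem isAdicComplete_of_retract {A : Type u} [CommRing A] (I : Ideal A)
    {L : Type v} {C : Type w} [AddCommGroup L] [Module A L] [AddCommGroup C] [Module A C]
    [IsAdicComplete I C] (i : L →ₗ[A] C) (r : C →ₗ[A] L) (hri : ∀ x, r (i x) = x) :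
    IsAdicComplete I L := by
  have hH : IsHausdorff I C := inferInstance
  have hP : IsPrecomplete I C := inferInstance
  have hi : ∀ (n : ℕ) (x : L), x ∈ (I ^ n • ⊤ : Submodule A L) →
      i x ∈ (I ^ n • ⊤ : Submodule A C) := fun n x hx =>
    Submodule.smul_top_le_comap_smul_top (I ^ n) i hx
  have hr : ∀ (n : ℕ) (x : C), x ∈ (I ^ n • ⊤ : Submodule A C) →
      r x ∈ (I ^ n • ⊤ : Submodule A L) := fun n x hx =>
    Submodule.smul_top_le_comap_smul_top (I ^ n) r hx
  refine { haus' := ?_, prec' := ?_ }
  · intro x hx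
    have h := hH.haus (i x) (fun n => by
      rw [SModEq.zero]
      exact hi n x (SModEq.zero.1 (hx n)))
    rw [← hri x, h, map_zero]
  · intro f hf
    obtain ⟨c, hc⟩ := hP.prec (f := fun n => i (f n)) (fun {m n} hmn => by
      rw [SModEq.sub_mem, ← map_sub]
      exact hi m _ (SModEq.sub_mem.1 (hf hmn)))
    refine ⟨r c, fun n => ?_⟩
    have := hr n _ (SModEq.sub_mem.1 (hc n))
    rw [SModEq.sub_mem]
    rwa [map_sub, hri] at this

section

variable {A : Type u} [CommRing A] (I : Ideal A)
    (M : ℕ → Type v) [∀ n, AddCommGroup (M n)] [∀ n, Module A (M n)]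
    (f : ∀ n, M (n + 1) →ₗ[A] M n)
    (hkill : ∀ n, I ^ (n + 1) • (⊤ : Submodule A (M n)) = ⊥)
    (L : Type v) [AddCommGroup L] [Module A L] (π : ∀ n, L →ₗ[A] M n)

include hkill in
theorem pi_le_ker (n : ℕ) : (I ^ (n + 1) • ⊤ : Submodule A L) ≤ LinearMap.ker (π n) := by
  intro x hx
  have := Submodule.smul_top_le_comap_smul_top (I ^ (n + 1)) (π n) hx
  rw [Submodule.mem_comap, hkill, Submodule.mem_bot] at this
  exact this

/-- `π_n` on `L / I^(n+1) L` -/
noncomputable def pibar (n : ℕ) : (L ⧸ (I ^ (n + 1) • ⊤ : Submodule A L)) →ₗ[A] M n :=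
  Submodule.liftQ _ (π n) (pi_le_ker I M hkill L π n)

variable (hπ : ∀ n, f n ∘ₗ π (n + 1) = π n)
    (hinj : ∀ x : L, (∀ n, π n x = 0) → x = 0)
    (hlift : ∀ y : (∀ n, M n), (∀ n, f n (y (n + 1)) = y n) → ∃ x : L, ∀ n, π n x = y n)

include hkill hπ hinj hlift in
theorem isAdicComplete_limit (hI : I.FG) : IsAdicComplete I L := by
  have hcompat : ∀ (x : AdicCompletion I L) (n : ℕ),
      f n (pibar I M hkill L π (n + 1) (x.val (n + 2))) = pibar I M hkill L π n (x.val (n + 1)) := by
    intro x n
    have h1 : x.val (n + 1) = AdicCompletion.transitionMap I L (Nat.le_succ (n + 1)) (x.val (n + 2)) :=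
      (x.prop (Nat.le_succ (n + 1))).symm
    obtain ⟨z, hz⟩ := Submodule.Quotient.mk_surjective _ (x.val (n + 2))
    rw [h1, ← hz]
    exact congrArg (fun g => g z) (congrArg DFunLike.coe (hπ n))
  choose r hr using fun x : AdicCompletion I L =>
    hlift (fun n => pibar I M hkill L π n (x.val (n + 1))) (hcompat x)
  have huniq : ∀ x y : L, (∀ n, π n x = π n y) → x = y := by
    intro x y h
    rw [← sub_eq_zero]
    exact hinj _ (fun n => by rw [map_sub, h, sub_self])
  let R : AdicCompletion I L →ₗ[A] L :=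
    { toFun := r
      map_add' := fun x y => huniq _ _ fun n => by
        rw [hr, map_add, hr, hr, ← map_add]; rfl
      map_smul' := fun a x => huniq _ _ fun n => by
        rw [hr, RingHom.id_apply, map_smul, hr, ← map_smul]; rfl }
  have : IsAdicComplete I (AdicCompletion I L) := AdicCompletion.isAdicComplete hI
  refine isAdicComplete_of_retract I (AdicCompletion.of I L) R fun x => huniq _ _ fun n => ?_
  change π n (r _) = _
  rw [hr]
  rfl

end

end K83.LimComplete
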