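import Groth.Agent.CAlg.K83.DetExact
import Groth.Agent.CAlg.K83.ConormalFree
import Mathlib.RingTheory.Smooth.Basic

/-!
# The top exterior power of `Ω_{B/A}` for a smooth complete intersection
-/

set_option autoImplicit false

open scoped TensorProduct

namespace K83.OmegaTop

/-- A left inverse of `f` in an exact sequence gives a compatible section of `g`. -/
theorem exists_section {R M' M M'' : Type*} [CommRing R] [AddCommGroup M'] [Module R M']
    [AddCommGroup M] [Module R M] [AddCommGroup M''] [Module R M''] (f : M' →ₗ[R] M)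
    (g : M →ₗ[R] M'') (r : M →ₗ[R] M') (hr : r ∘ₗ f = LinearMap.id) (hgf : Function.Exact f g)
    (hg : Function.Surjective g) : ∃ s : M'' →ₗ[R] M, ∀ m, m - s (g m) = f (r m) := by
  choose σ hσ using hg
  have key : ∀ m, g m = 0 → m - f (r m) = 0 := by
    intro m hm
    obtain ⟨x, rfl⟩ := (hgf m).1 hm
    have : r (f x) = x := LinearMap.congr_fun hr x
    rw [this, sub_self]
  have key' : ∀ m m', g m = g m' → m - f (r m) = m' - f (r m') := by
    intro m m' h
    have := key (m - m') (by rw [map_sub, h, sub_self])
    rw [map_sub, map_sub] at this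
    rw [← sub_eq_zero, ← this]
    abel
  refine ⟨{ toFun := fun x => σ x - f (r (σ x))
            map_add' := fun x y => ?_
            map_smul' := fun c x => ?_ }, fun m => ?_⟩
  · have := key' (σ (x + y)) (σ x + σ y) (by rw [map_add, hσ, hσ, hσ])
    rw [this, map_add, map_add]
    abel
  · have := key' (σ (c • x)) (c • σ x) (by rw [map_smul, hσ, hσ])
    rw [this, map_smul, map_smul, RingHom.id_apply, smul_sub]
  · have := key' (σ (g m)) m (hσ _)
    rw [LinearMap.coe_mk, AddHom.coe_mk, this, sub_sub_cancel]

theorem nonempty_equiv (A P B : Type*) [CommRing A] [CommRing P] [CommRing B] [Algebra A P]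
    [Algebra P B] [Algebra A B] [IsScalarTower A P B] (hB : Function.Surjective (algebraMap P B))
    [Algebra.FormallySmooth A P] [Algebra.FormallySmooth A B] {n r : ℕ} (hrn : r ≤ n)
    (b : Module.Basis (Fin n) P (Ω[P⁄A])) (K : Ideal P)
    (hK : ∀ x, algebraMap P B x = 0 ↔ x ∈ K) (F : Fin r → P) (hF : K = Ideal.span (Set.range F))
    (hreg : RingTheory.Sequence.IsWeaklyRegular P (List.ofFn F)) :
    Nonempty (⋀[B]^(n - r) (Ω[B⁄A]) ≃ₗ[B] B) := by
  let E : Algebra.Extension A B := ⟨P, _, Function.surjInv_eq hB⟩
  have hE : E.ker = K := by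
    ext x
    exact hK x
  obtain ⟨b'⟩ := ConormalFree.nonempty_basis (P := E.Ring) (B := B) (T := E.Cotangent) hB E.ker
    (fun x => Iff.rfl) F (hE.trans hF) hreg (Algebra.Extension.Cotangent.mk (P := E))
    Algebra.Extension.Cotangent.mk_surjective
    (fun x => Algebra.Extension.Cotangent.mk_eq_zero_iff (P := E) x)
  have : Algebra.FormallySmooth A E.Ring := ‹Algebra.FormallySmooth A P›
  obtain ⟨l, hl⟩ := (Algebra.Extension.formallySmooth_iff_split_injection E).1 inferInstance
  have hex := E.exact_cotangentComplex_toKaehler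
  have hsurj := E.toKaehler_surjective
  obtain ⟨s, hs⟩ := exists_section E.cotangentComplex E.toKaehler l hl hex hsurj
  have bB : Module.Basis (Fin n) B E.CotangentSpace := Module.Basis.baseChange B b
  exact DetExact.nonempty_quot E.cotangentComplex E.toKaehler l s hl
    (LinearMap.ext fun x => hex.apply_apply_eq_zero x) hsurj hs b' bB hrn

end K83.OmegaTop
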