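import Mathlib.RingTheory.MvPolynomial.Ideal
import Mathlib.RingTheory.PrincipalIdealDomain
import Mathlib.RingTheory.WittVector.Frobenius

/-! Addition of Witt vectors killed by the Frobenius, over a principal ideal ring of characteristic `p`. -/

set_option autoImplicit false
universe u

namespace K83.WittNil

open MvPolynomial

theorem wittAdd_sub_mem (p : ℕ) [hp : Fact p.Prime] (n : ℕ) :
    WittVector.wittAdd p n - X (0, n) - X (1, n) ∈ idealOfVars (Fin 2 × ℕ) ℤ ^ p := by
  have hpp : p.Prime := Fact.out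
  have hS : ∀ i, WittVector.wittAdd p i ∈ idealOfVars (Fin 2 × ℕ) ℤ := by
    intro i
    have h1 := (mem_pow_idealOfVars_iff' 1 (WittVector.wittAdd p i)).2 (by
      intro x hx
      have hx0 : x = 0 := by
        rw [← Finsupp.degree_eq_zero_iff]; omega
      rw [hx0]
      exact WittVector.constantCoeff_wittAdd (p := p) i)
    rwa [pow_one] at h1
  have hX : ∀ i, (X i : MvPolynomial (Fin 2 × ℕ) ℤ) ∈ idealOfVars (Fin 2 × ℕ) ℤ := fun i =>
    Ideal.subset_span ⟨i, rfl⟩
  have hpow : ∀ (f : MvPolynomial (Fin 2 × ℕ) ℤ) (i : ℕ), i ≠ 0 → f ∈ idealOfVars (Fin 2 × ℕ) ℤ →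
      f ^ p ^ i ∈ idealOfVars (Fin 2 × ℕ) ℤ ^ p := by
    intro f i hi hf
    have h1 : p ≤ p ^ i := Nat.le_self_pow hi p
    exact Ideal.pow_le_pow_right h1 (Ideal.pow_mem_pow hf _)
  have h1 : (C ((p : ℤ) ^ n)) * (WittVector.wittAdd p n - X (0, n) - X (1, n)) ∈
      idealOfVars (Fin 2 × ℕ) ℤ ^ p := by
    have h2 := wittStructureInt_prop p (X 0 + X 1 : MvPolynomial (Fin 2) ℤ) n
    rw [wittPolynomial_eq_sum_C_mul_X_pow, map_add, bind₁_X_right, bind₁_X_right] at h2
    simp only [map_add, map_sum, map_mul, map_pow, bind₁_X_right, algHom_C, rename_X,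
      Finset.sum_range_succ, algebraMap_eq, Nat.sub_self, pow_zero, pow_one] at h2
    have h3 : (C (p : ℤ) : MvPolynomial (Fin 2 × ℕ) ℤ) ^ n *
        (WittVector.wittAdd p n - X (0, n) - X (1, n)) =
        (∑ i ∈ Finset.range n, C (p : ℤ) ^ i * X (0, i) ^ p ^ (n - i)) +
        (∑ i ∈ Finset.range n, C (p : ℤ) ^ i * X (1, i) ^ p ^ (n - i)) -
        (∑ i ∈ Finset.range n, C (p : ℤ) ^ i * WittVector.wittAdd p i ^ p ^ (n - i)) := by
      unfold WittVector.wittAdd
      linear_combination h2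
    rw [C_pow, h3]
    refine Ideal.sub_mem _ (Ideal.add_mem _ ?_ ?_) ?_
    · refine Ideal.sum_mem _ fun i hi => Ideal.mul_mem_left _ _ (hpow _ _ ?_ (hX _))
      rw [Finset.mem_range] at hi; omega
    · refine Ideal.sum_mem _ fun i hi => Ideal.mul_mem_left _ _ (hpow _ _ ?_ (hX _))
      rw [Finset.mem_range] at hi; omega
    · refine Ideal.sum_mem _ fun i hi => Ideal.mul_mem_left _ _ (hpow _ _ ?_ (hS _))
      rw [Finset.mem_range] at hi; omega
  rw [mem_pow_idealOfVars_iff'] at h1 ⊢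
  intro x hx
  have h2 := h1 x hx
  rw [coeff_C_mul] at h2
  exact (mul_eq_zero.1 h2).resolve_left (pow_ne_zero _ (by exact_mod_cast hpp.ne_zero))

theorem coeff_add {B : Type u} [CommRing B] (p : ℕ) [hp : Fact p.Prime] (hp0 : (p : B) = 0)
    [IsPrincipalIdealRing B] (a b : WittVector p B) (ha : WittVector.frobenius a = 0)
    (hb : WittVector.frobenius b = 0) (n : ℕ) : (a + b).coeff n = a.coeff n + b.coeff n := by
  have hpp : p.Prime := Fact.out
  rcases subsingleton_or_nontrivial B with hs | hs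
  · exact Subsingleton.elim _ _
  have hchar : CharP B p := (CharP.charP_iff_prime_eq_zero hpp).2 hp0
  have ha' : ∀ i, a.coeff i ^ p = 0 := by
    intro i
    rw [← WittVector.coeff_frobenius_charP, ha, WittVector.zero_coeff]
  have hb' : ∀ i, b.coeff i ^ p = 0 := by
    intro i
    rw [← WittVector.coeff_frobenius_charP, hb, WittVector.zero_coeff]
  let v : Fin 2 × ℕ → B := Function.uncurry ![a.coeff, b.coeff]
  have hv : ∀ i, v i ^ p = 0 := by
    rintro ⟨i, j⟩
    fin_cases i
    · exact ha' j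
    · exact hb' j
  let J : Ideal B := Ideal.span (Set.range v)
  have hJ : J ≤ RingHom.ker (frobenius B p) := by
    rw [Ideal.span_le]
    rintro _ ⟨i, rfl⟩
    rw [SetLike.mem_coe, RingHom.mem_ker, frobenius_def]
    exact hv i
  have hJp : J ^ p = ⊥ := by
    obtain ⟨g, hg⟩ := (IsPrincipalIdealRing.principal J).principal
    have hgJ : g ∈ J := by rw [hg]; exact Submodule.mem_span_singleton_self g
    have hg0 : g ^ p = 0 := by
      have := hJ hgJ
      rwa [RingHom.mem_ker, frobenius_def] at this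
    have hg' : J = Ideal.span {g} := hg
    rw [hg', Ideal.span_singleton_pow, hg0, Ideal.span_singleton_eq_bot]
  have h1 : (MvPolynomial.aeval v) (WittVector.wittAdd p n - X (0, n) - X (1, n)) ∈ J ^ p := by
    have h2 := Ideal.mem_map_of_mem (MvPolynomial.aeval v : MvPolynomial (Fin 2 × ℕ) ℤ →ₐ[ℤ] B)
      (wittAdd_sub_mem p n)
    rw [Ideal.map_pow, Ideal.map_span, ← Set.range_comp] at h2
    have h3 : (fun x => (MvPolynomial.aeval v : MvPolynomial (Fin 2 × ℕ) ℤ →ₐ[ℤ] B) x) ∘ X = v := by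
      ext i; simp
    have h4 : Set.range ((MvPolynomial.aeval v : MvPolynomial (Fin 2 × ℕ) ℤ →ₐ[ℤ] B) ∘ X) = Set.range v :=
      congrArg Set.range h3
    rw [h4] at h2
    exact h2
  rw [hJp, Ideal.mem_bot, map_sub, map_sub, aeval_X, aeval_X, sub_sub, sub_eq_zero] at h1
  rw [WittVector.add_coeff]
  exact h1

end K83.WittNil
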